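import Groth.Prelude
import Groth.Agent.AlgStLib.UnivTop
import Groth.Agent.AlgStLib.Rows1
import Groth.Agent.FibLib.Fp
import Groth.Agent.GerbeLib.Basic
import Groth.Agent.AlgStSetoidLib.Geom

/-!
# Moduli maps dominated by an integral morphism are universal homeomorphisms
-/

set_option autoImplicit false
set_option linter.all false
set_option backward.isDefEq.respectTransparency false
set_option backward.isDefEq.respectTransparency.types false

universe u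

open CategoryTheory CategoryTheory.Limits AlgebraicGeometry Opposite AlgSp FibCat FibLib AlgSpLib Topology

noncomputable section

namespace ConstQuotLib

variable {S : Scheme.{u}} {𝒳 : AlgSt.Cat S} {M : Sp S}

/-- Objects over the same point with vertically isomorphic images have the same section. -/
theorem fibSec_eq (π : 𝒳 ⥤ᵇ AlgSt.ofSp M) {T : Over S} (x y : 𝒳.p.Fiber T) (e : π.obj x.1 ⟶ π.obj y.1)
    [(AlgSt.ofSp M).p.IsHomLift (𝟙 T) e] : AlgSt.fibSec π x = AlgSt.fibSec π y := by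
  have he : e.hom = eqToHom ((π.w_obj x.1).trans x.2) ≫ eqToHom ((π.w_obj y.1).trans y.2).symm := by
    simpa using IsHomLift.fac' (AlgSt.ofSp M).p (𝟙 T) e
  simp only [AlgSt.fibSec]
  rw [← e.map_sec, he]
  refine (Functor.map_comp_apply _ _ _ _).symm.trans ?_
  congr 1
  simp

/-- Vertical isomorphism classes are determined by the image in the space, so base changes are injective on points. -/
theorem injective_fpFst [IsFibGrpd 𝒳.p] {π : 𝒳 ⥤ᵇ AlgSt.ofSp M} (hπ : AlgSt.GeomPtBij π) {𝒵 : AlgSt.Cat S}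
    [IsFibGrpd 𝒵.p] (g : 𝒵 ⥤ᵇ AlgSt.ofSp M) :
    Function.Injective (AlgSt.Points.map (FibCat.fpFst g π)) := by
  haveI : IsFibGrpd (AlgSt.ofSp M).p := Stk.isFibGrpd_ofPsh _
  haveI : IsFibGrpd (fp g π).p := isFibGrpd_fp
  intro z w h
  obtain ⟨P, rfl⟩ := AlgSt.Points.mk_surjective z
  obtain ⟨Q, rfl⟩ := AlgSt.Points.mk_surjective w
  obtain ⟨r, a, b, -⟩ := AlgStLib.mk_eq_mk_iff.mp h
  let Ω := AlgebraicClosure r.K
  let t : Spec (CommRingCat.of Ω) ⟶ S := Spec.map (CommRingCat.ofHom (algebraMap r.K Ω)) ≫ r.str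
  let ext : Over.mk t ⟶ Over.mk r.str := Over.homMk (Spec.map (CommRingCat.ofHom (algebraMap r.K Ω))) rfl
  obtain ⟨r₀, ρ, hρ⟩ := exists_lift 𝒵.p r.lies ext
  let α : Over.mk r.str ⟶ Over.mk P.str := AlgStLib.baseHom a
  let β : Over.mk r.str ⟶ Over.mk Q.str := AlgStLib.baseHom b
  haveI : 𝒵.p.IsHomLift α a := AlgStLib.isHomLift_baseHom a
  haveI : 𝒵.p.IsHomLift β b := AlgStLib.isHomLift_baseHom b
  obtain ⟨p₀, φ, hφ⟩ := exists_lift (fp g π).p P.lies (ext ≫ α)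
  obtain ⟨q₀, ψ, hψ⟩ := exists_lift (fp g π).p Q.lies (ext ≫ β)
  have hp : 𝒵.p.obj p₀.obj.fst = Over.mk t := IsHomLift.domain_eq (fp g π).p (ext ≫ α) φ
  have hq : 𝒵.p.obj q₀.obj.fst = Over.mk t := IsHomLift.domain_eq (fp g π).p (ext ≫ β) ψ
  haveI hφ₁ : 𝒵.p.IsHomLift (ext ≫ α) φ.hom.fst := (FibCat.fpFst g π).preserves_isHomLift _ φ
  haveI hψ₁ : 𝒵.p.IsHomLift (ext ≫ β) ψ.hom.fst := (FibCat.fpFst g π).preserves_isHomLift _ ψ
  obtain ⟨i₁, hi₁, -⟩ := GerbeLib.exists_vert 𝒵.p (ext ≫ α) φ.hom.fst (ρ ≫ a) hφ₁ inferInstance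
  obtain ⟨i₂, hi₂, -⟩ := GerbeLib.exists_vert 𝒵.p (ext ≫ β) ψ.hom.fst (ρ ≫ b) hψ₁ inferInstance
  let i : p₀.obj.fst ≅ q₀.obj.fst := i₁ ≪≫ i₂.symm
  haveI hi : 𝒵.p.IsHomLift (𝟙 (Over.mk t)) i.hom :=
    GerbeLib.isHomLift_id_comp _ (𝟙 _) _ _ hi₁ (@IsHomLift.lift_id_inv _ _ _ _ 𝒵.p _ _ _ i₂ hi₂)
  let xp : 𝒳.p.Fiber (Over.mk t) := ⟨p₀.obj.snd, ((FibCat.fpSnd g π).w_obj p₀).trans hp⟩
  let xq : 𝒳.p.Fiber (Over.mk t) := ⟨q₀.obj.snd, ((FibCat.fpSnd g π).w_obj q₀).trans hq⟩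
  haveI h1 : (AlgSt.ofSp M).p.IsHomLift (𝟙 (Over.mk t)) p₀.obj.iso.inv := by
    haveI : (AlgSt.ofSp M).p.IsHomLift (𝟙 (Over.mk t)) p₀.obj.iso.hom := hp ▸ p₀.property
    exact IsHomLift.lift_id_inv _ _ p₀.obj.iso
  haveI h2 : (AlgSt.ofSp M).p.IsHomLift (𝟙 (Over.mk t)) (g.map i.hom) := g.preserves_isHomLift _ _
  haveI h3 : (AlgSt.ofSp M).p.IsHomLift (𝟙 (Over.mk t)) q₀.obj.iso.hom := hq ▸ q₀.property
  haveI : (AlgSt.ofSp M).p.IsHomLift (𝟙 (Over.mk t)) (g.map i.hom ≫ q₀.obj.iso.hom) :=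
    GerbeLib.isHomLift_id_comp _ (𝟙 _) _ _ h2 h3
  haveI : (AlgSt.ofSp M).p.IsHomLift (𝟙 (Over.mk t)) (p₀.obj.iso.inv ≫ g.map i.hom ≫ q₀.obj.iso.hom) :=
    GerbeLib.isHomLift_id_comp _ (𝟙 _) _ _ h1 inferInstance
  obtain ⟨j⟩ := (hπ Ω t).2 xp xq (fibSec_eq π xp xq (p₀.obj.iso.inv ≫ g.map i.hom ≫ q₀.obj.iso.hom))
  let j' : p₀.obj.snd ⟶ q₀.obj.snd := j.hom.1
  haveI hj : 𝒳.p.IsHomLift (𝟙 (Over.mk t)) j' := j.hom.2
  have comm : g.map i.hom ≫ q₀.obj.iso.hom = p₀.obj.iso.hom ≫ π.map j' := by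
    haveI h4 : (AlgSt.ofSp M).p.IsHomLift (𝟙 (Over.mk t)) (π.map j') := π.preserves_isHomLift _ _
    haveI h5 : (AlgSt.ofSp M).p.IsHomLift (𝟙 (Over.mk t)) p₀.obj.iso.hom := hp ▸ p₀.property
    haveI : (AlgSt.ofSp M).p.IsHomLift (𝟙 (Over.mk t)) (p₀.obj.iso.hom ≫ π.map j') :=
      GerbeLib.isHomLift_id_comp _ (𝟙 _) _ _ h5 h4
    exact Stk.EltObj.hom_ext ((IsHomLift.fac' (AlgSt.ofSp M).p (𝟙 (Over.mk t)) (g.map i.hom ≫ q₀.obj.iso.hom)).trans
      (IsHomLift.fac' (AlgSt.ofSp M).p (𝟙 (Over.mk t)) (p₀.obj.iso.hom ≫ π.map j')).symm)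
  exact AlgSt.Points.sound ⟨{ K := Ω, str := t, obj := p₀, lies := hp }, φ,
    (fpHom i.hom j' comm : p₀ ⟶ q₀) ≫ ψ, trivial⟩

/-- The functor of an integral morphism is universally closed, and surjective if the morphism is. -/
theorem univClosed_ofSpMap {X Y : Over S} (f : X ⟶ Y) [IsIntegralHom f.left] :
    AlgSt.IsUnivClosed Scheme.fppfPrecoverage (AlgSt.ofSpMap ((yon S).map f)) := by
  have h : IsUnivClosedMor ((yon S).map f) := by
    refine (AlgSpLib.repWith_universally_iff (Q := IsClosedMor)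
      (Q' := fun _ _ φ => IsClosedMap φ) AlgSpLib.descends_isClosedMor
      (fun φ => AlgSpLib.isClosedMap_map_yon_iff φ) (fun e _ p hp => ?_) (representable_yon_map f)).1 ?_
    · show IsClosedMap (Points.map (e ≫ p))
      have hc : Points.map (e ≫ p) = Points.map p ∘ Points.map e := funext fun x => Points.map_comp e p x
      rw [hc]
      exact hp.comp (AlgSpLib.isHomeomorph_map_of_isIso e).isClosedMap
    · rw [repWith_yon_map_iff]
      have hc : UniversallyClosed f.left := inferInstance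
      rwa [universallyClosed_eq] at hc
  have hX := AlgStLib.isAlgStack_ofSp (IsAlgSpace.yon_obj X)
  have hY := AlgStLib.isAlgStack_ofSp (IsAlgSpace.yon_obj Y)
  have hr : AlgSt.RepByAlgSpWith IsUnivClosedMor (AlgSt.ofSpMap ((yon S).map f)) :=
    AlgStLib.repByAlgSpWith_ofSpMap (IsAlgSpace.yon_obj X) (IsAlgSpace.yon_obj Y) _
      fun U ξ => AlgSpLib.univSp_of_isPullback (IsPullback.of_hasPullback _ ξ) h
  exact (AlgStLib.univClosed_iff hX hY _ (AlgStLib.repByAlgSp1_of_with hr)).1 hr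

/-- A moduli map dominated by an integral surjection is a universal homeomorphism. -/
theorem isUnivHomeo {X Y : Over S} (f : X ⟶ Y) [IsIntegralHom f.left] [Surjective f.left]
    (h𝒳 : AlgSt.IsAlgStack Scheme.fppfPrecoverage 𝒳) (π : 𝒳 ⥤ᵇ AlgSt.ofSch Y) (q : AlgSt.ofSch X ⥤ᵇ 𝒳)
    (hq : Nonempty (BasedFunctor.comp q π ≅ AlgSt.ofSpMap ((yon S).map f))) (hπ : AlgSt.GeomPtBij π) :
    AlgSt.IsUnivHomeo Scheme.fppfPrecoverage π := by
  intro 𝒵 h𝒵 g
  haveI := h𝒵.isStack.1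
  haveI := h𝒳.isStack.1
  haveI : IsFibGrpd (AlgSt.ofSch X).p := Stk.isFibGrpd_ofPsh _
  haveI : IsFibGrpd (AlgSt.ofSch Y).p := Stk.isFibGrpd_ofPsh _
  haveI : IsFibGrpd (fp g π).p := isFibGrpd_fp
  haveI : IsFibGrpd (fp g (AlgSt.ofSpMap ((yon S).map f))).p := isFibGrpd_fp
  obtain ⟨α⟩ := hq
  let F := AlgSt.ofSpMap ((yon S).map f)
  have hinj := injective_fpFst hπ g
  have hs : Function.Surjective (AlgSt.Points.map (FibCat.fpFst g F)) := by
    refine AlgStLib.surjective_fpFst fun y => ?_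
    have : Function.Surjective (Points.map ((yon S).map f)) := by
      rw [Points.map_yon_map_eq]
      exact (Points.schemeHomeo Y).surjective.comp (f.left.surjective.comp (Points.schemeHomeo X).symm.surjective)
    obtain ⟨x, hx⟩ := this (AlgStLib.ptsEquiv _ y)
    refine ⟨(AlgStLib.ptsEquiv _).symm x, (AlgStLib.ptsEquiv _).injective ?_⟩
    exact (AlgStLib.ptsEquiv_map _ _).trans (by rw [Equiv.apply_symm_apply, hx])
  have hc := univClosed_ofSpMap f 𝒵 h𝒵 g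
  let m : fp g F ⥤ᵇ fp g π :=
    FibCat.fpLift (FibCat.fpFst g F) (BasedFunctor.comp (FibCat.fpSnd g F) q)
      (FibCat.fpIso g F ≪≫ FibLib.whiskerLeftIso' (FibCat.fpSnd g F) α.symm)
  have hm : ∀ v, AlgSt.Points.map (FibCat.fpFst g π) (AlgSt.Points.map m v) = AlgSt.Points.map (FibCat.fpFst g F) v :=
    fun v => (AlgStLib.map_comp _ _ _).symm
  have hcont := AlgStLib.continuous_map h𝒵.atlas (FibCat.fpFst g π)
  refine ⟨hcont, ?_, hinj, fun z => ?_⟩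
  · have hmc : IsClosedMap (AlgSt.Points.map (FibCat.fpFst g π)) := fun C hC => by
      have e : AlgSt.Points.map (FibCat.fpFst g π) '' C =
          AlgSt.Points.map (FibCat.fpFst g F) '' (AlgSt.Points.map m ⁻¹' C) := by
        ext z
        constructor
        · rintro ⟨w, hw, rfl⟩
          obtain ⟨v, hv⟩ := hs (AlgSt.Points.map (FibCat.fpFst g π) w)
          have : AlgSt.Points.map m v = w := hinj ((hm v).trans hv)
          exact ⟨v, by show AlgSt.Points.map m v ∈ C; rw [this]; exact hw, hv⟩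
        · rintro ⟨v, hv, rfl⟩
          exact ⟨_, hv, hm v⟩
      rw [e]
      refine hc _ (hC.preimage (AlgStLib.continuous_map ?_ m))
      exact (AlgStSetoidLib.isAlgStack_fp' h𝒵 h𝒳 (AlgStLib.isAlgStack_ofSp (IsAlgSpace.yon_obj Y)) g π).atlas
    intro U hU
    have hb : Function.Surjective (AlgSt.Points.map (FibCat.fpFst g π)) := fun z => by
      obtain ⟨v, hv⟩ := hs z
      exact ⟨_, (hm v).trans hv⟩
    rw [← compl_compl U, Set.image_compl_eq ⟨hinj, hb⟩]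
    exact (hmc _ hU.isClosed_compl).isOpen_compl
  · obtain ⟨v, hv⟩ := hs z
    exact ⟨_, (hm v).trans hv⟩

end ConstQuotLib
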