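import Groth.Agent.ConstQuotLib.Core
import Groth.Agent.QuotLib.Affine
import Groth.Agent.QuotLib.Exists
import Groth.Agent.AWNLib.Basic

/-!
# The constant group acting on an affine scheme
-/

set_option autoImplicit false
set_option linter.all false
set_option backward.isDefEq.respectTransparency false
set_option backward.isDefEq.respectTransparency.types false

universe u

open CategoryTheory CategoryTheory.Limits AlgebraicGeometry MonoidalCategory CartesianMonoidalCategory
  TensorProduct

namespace ConstQuotLib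

variable (R : Type u) [CommRing R] (A : Type u) [CommRing A] [Algebra R A]
  (G : Type u) [Group G] [Fintype G] [DecidableEq G] [MulSemiringAction G A] [SMulCommClass G R A]

/-- The left action by automorphisms. -/
noncomputable def actAut : G →* Aut (ConstAct.specA R A).left where
  toFun g :=
    { hom := (ConstAct.act R A G g⁻¹).left
      inv := (ConstAct.act R A G g).left
      hom_inv_id := by rw [← Over.comp_left, ← ConstAct.act_mul, inv_mul_cancel, ConstAct.act_one]; rfl
      inv_hom_id := by rw [← Over.comp_left, ← ConstAct.act_mul, mul_inv_cancel, ConstAct.act_one]; rfl }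
  map_one' := Iso.ext (by
    show (ConstAct.act R A G (1 : G)⁻¹).left = 𝟙 _
    rw [inv_one, ConstAct.act_one]; rfl)
  map_mul' g h := Iso.ext (by
    show (ConstAct.act R A G (g * h)⁻¹).left = (ConstAct.act R A G h⁻¹).left ≫ (ConstAct.act R A G g⁻¹).left
    rw [mul_inv_rev, ConstAct.act_mul, Over.comp_left])

theorem actAut_over (g : G) : (actAut R A G g).hom ≫ (ConstAct.specA R A).hom = (ConstAct.specA R A).hom :=
  Over.w (ConstAct.act R A G g⁻¹)

/-- `Spec A → Spec A^G` is the quotient. -/
theorem isQuot_quot : SGA1.IsQuot (actAut R A G) (ConstAct.quot R A G).left := by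
  haveI : IsAffine (ConstAct.specA R A).left := inferInstanceAs (IsAffine (Spec _))
  haveI : IsAffine (ConstAct.specInv R A G).left := inferInstanceAs (IsAffine (Spec _))
  let ι := CommRingCat.ofHom (ConstAct.inv R A G).val.toRingHom
  have hp : ∀ x, (Scheme.ΓSpecIso _).hom.hom ((ConstAct.quot R A G).left.appTop.hom x) =
      ι.hom ((Scheme.ΓSpecIso _).hom.hom x) := fun x => by
    have := congrArg (fun φ => φ.hom x) (Scheme.ΓSpecIso_naturality ι)
    exact this
  have hinj : Function.Injective (Scheme.ΓSpecIso (CommRingCat.of A)).hom.hom :=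
    (ConcreteCategory.bijective_of_isIso (Scheme.ΓSpecIso (CommRingCat.of A)).hom).1
  refine QuotLib.isQuot_of_affine (fun g => congrArg Over.Hom.left (ConstAct.act_quot R A G g⁻¹))
    (fun a b e => ?_) fun s hs => ?_
  · apply (ConcreteCategory.bijective_of_isIso (Scheme.ΓSpecIso (CommRingCat.of (ConstAct.inv R A G))).hom).1
    have := congrArg (Scheme.ΓSpecIso _).hom.hom e
    rw [hp, hp] at this
    exact Subtype.ext this
  · have hmem : (Scheme.ΓSpecIso _).hom.hom s ∈ ConstAct.inv R A G := fun g => by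
      have h := congrArg (Scheme.ΓSpecIso _).hom.hom (hs g⁻¹)
      have n := congrArg (fun φ => φ.hom s)
        (Scheme.ΓSpecIso_naturality (CommRingCat.ofHom (MulSemiringAction.toAlgEquiv R A g⁻¹⁻¹).toRingHom))
      have := n.symm.trans h
      simp only [inv_inv] at this
      exact this
    obtain ⟨b, hb⟩ := (ConcreteCategory.bijective_of_isIso
      (Scheme.ΓSpecIso (CommRingCat.of (ConstAct.inv R A G))).hom).2 ⟨_, hmem⟩
    exact ⟨b, hinj (by rw [hp, hb]; rfl)⟩

omit [Fintype G] [DecidableEq G] in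
theorem isIntegral_inv [Finite G] : Algebra.IsIntegral (ConstAct.inv R A G) A := by
  haveI : SMulCommClass G (ConstAct.inv R A G) A :=
    ⟨fun g b a => by
      show g • ((b : A) * a) = (b : A) * g • a
      rw [smul_mul', b.2 g]⟩
  haveI : Algebra.IsInvariant (ConstAct.inv R A G) A G := ⟨fun a ha => ⟨⟨a, ha⟩, rfl⟩⟩
  exact Algebra.IsInvariant.isIntegral (ConstAct.inv R A G) A G

omit [Fintype G] [DecidableEq G] in
theorem finite_inv [Finite G] [Algebra.FiniteType R A] : Module.Finite (ConstAct.inv R A G) A := by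
  haveI := isIntegral_inv R A G
  haveI : Algebra.FiniteType (ConstAct.inv R A G) A := Algebra.FiniteType.of_restrictScalars_finiteType R _ A
  exact Algebra.IsIntegral.finite

omit [Fintype G] [DecidableEq G] in
theorem isNoetherianRing_inv [Finite G] [IsNoetherianRing R] [Algebra.FiniteType R A] :
    IsNoetherianRing (ConstAct.inv R A G) := by
  haveI := finite_inv R A G
  have h : (⊤ : Subalgebra R (ConstAct.inv R A G)).FG :=
    fg_of_fg_of_fg R (ConstAct.inv R A G) A Algebra.FiniteType.out Module.Finite.fg_top Subtype.val_injective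
  haveI : Algebra.FiniteType R (ConstAct.inv R A G) := ⟨h⟩
  exact Algebra.FiniteType.isNoetherianRing R _

omit [Fintype G] [DecidableEq G] in
theorem isFinite_quot [Finite G] [Algebra.FiniteType R A] : IsFinite (ConstAct.quot R A G).left := by
  haveI := finite_inv R A G
  show IsFinite (Spec.map (CommRingCat.ofHom (algebraMap (ConstAct.inv R A G) A)))
  rw [IsFinite.SpecMap_iff, CommRingCat.hom_ofHom, RingHom.finite_algebraMap]
  infer_instance

theorem effEt_quot [IsNoetherianRing R] [Algebra.FiniteType R A] : EffEt (ConstAct.quot R A G).left := by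
  haveI := isNoetherianRing_inv R A G
  haveI := isFinite_quot R A G
  haveI : IsAffine (ConstAct.specA R A).left := inferInstanceAs (IsAffine (Spec _))
  haveI : IsAffine (ConstAct.specInv R A G).left := inferInstanceAs (IsAffine (Spec _))
  haveI : Surjective (ConstAct.quot R A G).left := ⟨QuotLib.surjective (isQuot_quot R A G)⟩
  haveI : IsLocallyNoetherian (ConstAct.specInv R A G).left :=
    inferInstanceAs (IsLocallyNoetherian (Spec (CommRingCat.of (ConstAct.inv R A G))))
  exact effEt_of_finite _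

theorem isAffineHom_GR : IsAffineHom (ConstAct.GR R G).hom :=
  haveI : IsAffine (ConstAct.GR R G).left := inferInstanceAs (IsAffine (Spec _))
  isAffineHom_of_isAffine _

theorem flat_GR : Flat (ConstAct.GR R G).hom := by
  haveI : Module.Free R (ConstGrp.F R G) := Module.Free.of_basis (ConstGrp.basis R G)
  show Flat (Spec.map (CommRingCat.ofHom (algebraMap R (ConstGrp.F R G))))
  rw [HasRingHomProperty.Spec_iff (P := @Flat), CommRingCat.hom_ofHom, RingHom.flat_algebraMap_iff]
  infer_instance

theorem lfp_GR : LocallyOfFinitePresentation (ConstAct.GR R G).hom := by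
  haveI : Module.Free R (ConstGrp.F R G) := Module.Free.of_basis (ConstGrp.basis R G)
  haveI : Module.Finite R (ConstGrp.F R G) := Module.Finite.of_basis (ConstGrp.basis R G)
  haveI : Module.FinitePresentation R (ConstGrp.F R G) := Module.finitePresentation_of_projective R _
  show LocallyOfFinitePresentation (Spec.map (CommRingCat.ofHom (algebraMap R (ConstGrp.F R G))))
  rw [HasRingHomProperty.Spec_iff (P := @LocallyOfFinitePresentation), CommRingCat.hom_ofHom,
    RingHom.finitePresentation_algebraMap]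
  exact Algebra.FinitePresentation.of_finitePresentation R (ConstGrp.F R G)

/-- Every field valued point of the constant group is constant. -/
theorem exists_constPt {K : Type u} [CommRing K] [IsDomain K] [Algebra R K] (φ : ConstGrp.F R G →ₐ[R] K) :
    ∃ g, φ = ConstAct.constPt R G g := by
  have h1 : ∑ g, φ (ConstGrp.e R g) = 1 := by rw [← map_sum, ConstGrp.sum_e, map_one]
  obtain ⟨g₀, -, hg₀⟩ := Finset.exists_ne_zero_of_sum_ne_zero (h1.trans_ne one_ne_zero)
  have h0 : ∀ g, g ≠ g₀ → φ (ConstGrp.e R g) = 0 := fun g hg => by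
    have := congrArg φ (ConstGrp.e_mul_e (R := R) g g₀)
    rw [map_mul, if_neg (Ne.symm hg), map_zero] at this
    exact (mul_eq_zero.1 this).resolve_right hg₀
  have h2 : φ (ConstGrp.e R g₀) = 1 := by
    rw [← h1]
    exact (Finset.sum_eq_single g₀ (fun g _ hg => h0 g hg) (by simp)).symm
  refine ⟨g₀, AlgHom.ext fun f => ?_⟩
  conv_lhs => rw [ConstGrp.eq_sum_smul_e f]
  rw [map_sum, Finset.sum_eq_single g₀ (fun g _ hg => by rw [map_smul, h0 g hg, smul_zero]) (by simp), map_smul, h2,
    Algebra.smul_def, mul_one, ConstAct.constPt_apply]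

/-- The quotient map is invariant. -/
theorem gaction_quot :
    (ConstAct.gaction R A G).act ≫ ConstAct.quot R A G =
      CartesianMonoidalCategory.snd (ConstAct.GR R G) (ConstAct.X R A) ≫ ConstAct.quot R A G := by
  let _ := ConstAct.comod R A G
  have _ := ConstAct.isCoactAlg R A G
  rw [ConstAct.gaction_eq]
  refine (CoactBr.action_act_comp_eq_iff (ConstAct.quot R A G)).2 (Over.OverMorphism.ext ?_)
  rw [Over.comp_left, Over.comp_left, CoactBr.ract_left]
  rw [show (CartesianMonoidalCategory.fst (CoactBr.sp R A) (CoactBr.sp R (ConstGrp.F R G))).left =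
    (pullbackSpecIso R A (ConstGrp.F R G)).hom ≫ Spec.map (CommRingCat.ofHom
      (Algebra.TensorProduct.includeLeftRingHom : A →+* A ⊗[R] ConstGrp.F R G)) from
      (pullbackSpecIso_hom_fst R A (ConstGrp.F R G)).symm]
  show ((pullbackSpecIso R A (ConstGrp.F R G)).hom ≫ Spec.map _) ≫ Spec.map _ =
    ((pullbackSpecIso R A (ConstGrp.F R G)).hom ≫ Spec.map _) ≫ Spec.map _
  rw [Category.assoc, Category.assoc, ← Spec.map_comp, ← Spec.map_comp]
  congr 2
  ext ⟨a, ha⟩
  show ConstAct.coactLin R A G a = a ⊗ₜ[R] (1 : ConstGrp.F R G)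
  rw [ConstAct.coactLin_apply, Finset.sum_congr rfl fun g _ => by rw [ha g], ← TensorProduct.tmul_sum, ConstGrp.sum_e]

/-- Invariance under the group scheme gives invariance under the group. -/
theorem act_invariant {C : Type*} [Category C] (F : Over (Spec (CommRingCat.of R)) ⥤ C) {N : C}
    {ψ : F.obj (ConstAct.X R A) ⟶ N}
    (h : F.map (ConstAct.gaction R A G).act ≫ ψ =
      F.map (CartesianMonoidalCategory.snd (ConstAct.GR R G) (ConstAct.X R A)) ≫ ψ) (g : G) :
    F.map (ConstAct.act R A G g⁻¹) ≫ ψ = ψ := by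
  let l : ConstAct.X R A ⟶ ConstAct.GR R G ⊗ ConstAct.X R A :=
    CartesianMonoidalCategory.lift (CoactBr.pt (ConstAct.constPt R G (K := A) g)) (CoactBr.pt (AlgHom.id R A))
  have h1 : l ≫ (ConstAct.gaction R A G).act = ConstAct.act R A G g⁻¹ := by
    rw [ConstAct.gaction_constPt, CoactBr.pt_id]; exact Category.id_comp _
  have h2 : l ≫ CartesianMonoidalCategory.snd (ConstAct.GR R G) (ConstAct.X R A) = 𝟙 _ := by
    rw [CartesianMonoidalCategory.lift_snd, CoactBr.pt_id]
  have := congrArg (F.map l ≫ ·) h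
  simp only [← Functor.map_comp_assoc, h1, h2] at this
  erw [F.map_id] at this
  rwa [Category.id_comp] at this

/-- The algebra form of the orbit property. -/
theorem algHom_orbit (Ω : Type u) [Field Ω] [IsAlgClosed Ω] [Algebra R Ω] :
    (∀ y : ↥(ConstAct.inv R A G) →ₐ[R] Ω, ∃ x : A →ₐ[R] Ω, x.comp (ConstAct.inv R A G).val = y) ∧
    (∀ x x' : A →ₐ[R] Ω, x.comp (ConstAct.inv R A G).val = x'.comp (ConstAct.inv R A G).val →
      ∃ g : G, x' = x.comp (MulSemiringAction.toAlgEquiv R A g : A →ₐ[R] A)) := by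
  refine ⟨fun y => ?_, fun x x' e => ?_⟩
  · letI : Algebra (ConstAct.inv R A G) Ω := y.toRingHom.toAlgebra
    haveI := isIntegral_inv R A G
    obtain ⟨φ, hφ⟩ : ∃ φ : A →+* Ω, φ.comp (algebraMap (ConstAct.inv R A G) A) = y.toRingHom :=
      AWNLib.exists_extend _
        (algebraMap_isIntegral_iff.2 inferInstance) (QuotLib.surjective (isQuot_quot R A G)) y.toRingHom
    exact ⟨⟨φ, fun r => (RingHom.congr_fun hφ (algebraMap R _ r)).trans (y.commutes r)⟩,
      AlgHom.coe_ringHom_injective hφ⟩
  · haveI : Finite G := inferInstance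
    haveI : IsAffine (ConstAct.specA R A).left := inferInstanceAs (IsAffine (Spec _))
    haveI : IsAffine (ConstAct.specInv R A G).left := inferInstanceAs (IsAffine (Spec _))
    obtain ⟨g, hg⟩ := QuotLib.geomOrbit_affine (isQuot_quot R A G) (x := (CoactBr.pt x).left)
      (x' := (CoactBr.pt x').left) (by
        rw [CoactBr.pt_left, CoactBr.pt_left]
        show Spec.map _ ≫ Spec.map _ = Spec.map _ ≫ Spec.map _
        rw [← Spec.map_comp, ← Spec.map_comp]
        exact congrArg (fun φ : _ →ₐ[R] Ω => Spec.map (CommRingCat.ofHom φ.toRingHom)) e)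
    exact ⟨g⁻¹, CoactBr.pt_injective ((Over.OverMorphism.ext hg).trans (ConstAct.pt_comp_toAlgEquiv R A G x g⁻¹).symm)⟩

theorem exists_pt {B : Type u} [CommRing B] [Algebra R B] {K : Type u} [CommRing K] [Algebra R K]
    (h : CoactBr.sp R K ⟶ CoactBr.sp R B) : ∃ φ : B →ₐ[R] K, CoactBr.pt φ = h := by
  obtain ⟨φ, hφ⟩ : ∃ φ : CommRingCat.of B ⟶ CommRingCat.of K, Spec.map φ = h.left := ⟨_, Spec.map_preimage h.left⟩
  have hw : CommRingCat.ofHom (algebraMap R B) ≫ φ = CommRingCat.ofHom (algebraMap R K) :=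
    Spec.map_injective (by rw [Spec.map_comp, hφ]; exact Over.w h)
  exact ⟨⟨φ.hom, fun r => congrArg (fun ψ => ψ.hom r) hw⟩, Over.OverMorphism.ext hφ⟩

/-- The orbit property for the group scheme. -/
theorem orbits (Ω : Type u) [Field Ω] [IsAlgClosed Ω] (t : Spec (CommRingCat.of Ω) ⟶ Spec (CommRingCat.of R)) :
    (∀ y : Over.mk t ⟶ ConstAct.specInv R A G, ∃ x : Over.mk t ⟶ ConstAct.X R A, x ≫ ConstAct.quot R A G = y) ∧
    (∀ x x' : Over.mk t ⟶ ConstAct.X R A, x ≫ ConstAct.quot R A G = x' ≫ ConstAct.quot R A G →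
      ∃ g : Over.mk t ⟶ ConstAct.GR R G,
        CartesianMonoidalCategory.lift g x' ≫ (ConstAct.gaction R A G).act = x) := by
  obtain ⟨φ, rfl⟩ := Spec.map_surjective t
  letI : Algebra R Ω := φ.hom.toAlgebra
  obtain ⟨hs, hi⟩ := algHom_orbit R A G Ω
  refine ⟨fun y => ?_, fun x x' e => ?_⟩
  · obtain ⟨y', hy'⟩ := exists_pt R (B := ↥(ConstAct.inv R A G)) (K := Ω) y
    obtain ⟨x, hx⟩ := hs y'
    refine ⟨CoactBr.pt x, Over.OverMorphism.ext ?_⟩
    rw [← hy', ← hx, CoactBr.pt_comp]
    rfl
  · obtain ⟨x₀, hx₀⟩ := exists_pt R (B := A) (K := Ω) x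
    obtain ⟨x₁, hx₁⟩ := exists_pt R (B := A) (K := Ω) x'
    obtain ⟨g, hg⟩ := hi x₁ x₀ (CoactBr.pt_injective (Over.OverMorphism.ext (by
      rw [CoactBr.pt_comp, CoactBr.pt_comp, Over.comp_left, Over.comp_left, hx₀, hx₁]
      exact (congrArg Over.Hom.left e).symm)))
    refine ⟨CoactBr.pt (ConstAct.constPt R G g⁻¹), ?_⟩
    rw [← hx₁, ← hx₀, hg, ConstAct.pt_comp_toAlgEquiv]
    exact (ConstAct.gaction_constPt R A G g⁻¹ x₁).trans (by rw [inv_inv])

end ConstQuotLib
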