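import Groth.Agent.ConstQuotLib.Core
import Groth.Agent.QuotLib.Exists
import Groth.Agent.AlgSpLib.Basic
import Groth.Agent.AlgSpLib.FormalLocal

/-!
# The quotient of an affine scheme by a finite group is categorical among algebraic spaces
-/

set_option autoImplicit false
set_option linter.all false
set_option backward.isDefEq.respectTransparency false
set_option backward.isDefEq.respectTransparency.types false

universe u

open CategoryTheory CategoryTheory.Limits AlgebraicGeometry

namespace ConstQuotLib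

section Pull

variable {X Y X' Y' : Scheme.{u}} {G : Type u} [Group G] {ρ : G →* Aut X} {f : X ⟶ Y}
  {pX : X' ⟶ X} {f' : X' ⟶ Y'} {q : Y' ⟶ Y}

theorem pullAct_w (sq : IsPullback pX f' f q) (hinv : ∀ g : G, (ρ g).hom ≫ f = f) (g : G) :
    (pX ≫ (ρ g).hom) ≫ f = f' ≫ q := by
  rw [Category.assoc, hinv, sq.w]

/-- The action on a base change. -/
noncomputable def pullAct (sq : IsPullback pX f' f q) (hinv : ∀ g : G, (ρ g).hom ≫ f = f) :
    G →* Aut X' where
  toFun g :=
    { hom := sq.lift (pX ≫ (ρ g).hom) f' (pullAct_w sq hinv g)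
      inv := sq.lift (pX ≫ (ρ g⁻¹).hom) f' (pullAct_w sq hinv g⁻¹)
      hom_inv_id := sq.hom_ext (by
          simp only [Category.assoc, IsPullback.lift_fst, IsPullback.lift_fst_assoc]
          rw [← QuotLib.act_mul, inv_mul_cancel, QuotLib.act_one]; simp)
        (by simp)
      inv_hom_id := sq.hom_ext (by
          simp only [Category.assoc, IsPullback.lift_fst, IsPullback.lift_fst_assoc]
          rw [← QuotLib.act_mul, mul_inv_cancel, QuotLib.act_one]; simp)
        (by simp) }
  map_one' := Iso.ext (sq.hom_ext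
    (by show sq.lift _ _ _ ≫ pX = 𝟙 X' ≫ pX; rw [IsPullback.lift_fst, QuotLib.act_one]; simp)
    (by show sq.lift _ _ _ ≫ f' = 𝟙 X' ≫ f'; simp))
  map_mul' g h := Iso.ext (sq.hom_ext (by
      show sq.lift _ _ _ ≫ pX = (sq.lift _ _ _ ≫ sq.lift _ _ _) ≫ pX
      simp only [Category.assoc, IsPullback.lift_fst, IsPullback.lift_fst_assoc, QuotLib.act_mul]) (by
      show sq.lift _ _ _ ≫ f' = (sq.lift _ _ _ ≫ sq.lift _ _ _) ≫ f'
      simp))

theorem pullAct_fst (sq : IsPullback pX f' f q) (hinv : ∀ g : G, (ρ g).hom ≫ f = f) (g : G) :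
    (pullAct sq hinv g).hom ≫ pX = pX ≫ (ρ g).hom :=
  sq.lift_fst _ _ _

theorem pullAct_snd (sq : IsPullback pX f' f q) (hinv : ∀ g : G, (ρ g).hom ≫ f = f) (g : G) :
    (pullAct sq hinv g).hom ≫ f' = f' :=
  sq.lift_snd _ _ _

end Pull

variable {S : Scheme.{u}} {X Y : Over S} (f : X ⟶ Y) {G : Type u} [Group G] [Finite G]
  {ρ : G →* Aut X.left}

set_option quotPrecheck false in
local notation "ym" => (AlgSp.yon S).map

/-- Maps from a scheme flat over the quotient to an algebraic space are determined upstairs. -/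
theorem eq_of_quot (hρ : SGA1.IsQuot ρ f.left) {N : AlgSp.Sp S} (hN : AlgSp.IsAlgSpace N) {T T' : Over S}
    (t : T ⟶ Y) [Flat t.left] (pT : T' ⟶ T) (pX : T' ⟶ X)
    (sq : IsPullback pX.left pT.left f.left t.left) {a b : (AlgSp.yon S).obj T ⟶ N}
    (e : ym pT ≫ a = ym pT ≫ b) : a = b := by
  obtain ⟨U', p, hpe, hps⟩ := hN.atlas
  obtain ⟨W, a', w, sqW⟩ := AlgSpLib.exists_isPullback_yon p a hpe.rep
  haveI hwe : Etale w.left := hpe.property a _ _ sqW
  haveI hws : Surjective w.left := hps.property a _ _ sqW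
  obtain ⟨W₂, c, r, sq₂⟩ := AlgSpLib.exists_isPullback_yon p (ym w ≫ b) hpe.rep
  haveI hre : Etale r.left := hpe.property (ym w ≫ b) _ _ sq₂
  haveI := QuotLib.isIntegralHom hρ
  haveI : Surjective f.left := ⟨QuotLib.surjective hρ⟩
  haveI : UniversallyClosed pT.left :=
    MorphismProperty.of_isPullback (P := @UniversallyClosed) sq inferInstance
  haveI : Surjective pT.left := MorphismProperty.of_isPullback (P := @Surjective) sq inferInstance
  let W' : Over S := Over.mk (pullback.snd pT.left w.left ≫ W.hom)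
  let h : W' ⟶ W := Over.homMk (pullback.snd pT.left w.left) rfl
  let k : W' ⟶ T' := Over.homMk (pullback.fst pT.left w.left) (by
    show pullback.fst pT.left w.left ≫ T'.hom = pullback.snd pT.left w.left ≫ W.hom
    rw [← Over.w pT, ← Over.w w, ← Category.assoc, pullback.condition, Category.assoc])
  have hkh : k ≫ pT = h ≫ w := Over.OverMorphism.ext pullback.condition
  have sqh : IsPullback (k.left ≫ pX.left) h.left f.left (w.left ≫ t.left) :=
    (IsPullback.of_hasPullback pT.left w.left).paste_horiz sq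
  haveI : UniversallyClosed h.left :=
    MorphismProperty.of_isPullback (P := @UniversallyClosed) sqh inferInstance
  haveI : Surjective h.left := MorphismProperty.of_isPullback (P := @Surjective) sqh inferInstance
  have hh := SubmDescLib.univSubmersive_of_universallyClosed_surjective h.left
  have hab : ym (h ≫ a') ≫ p = ym h ≫ ym w ≫ b := by
    rw [Functor.map_comp, Category.assoc, sqW.w, ← Functor.map_comp_assoc, ← Functor.map_comp_assoc, ← hkh,
      Functor.map_comp_assoc, Functor.map_comp_assoc, e]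
  obtain ⟨σ, hσ⟩ := (AlgSp.yon S).map_surjective (sq₂.lift (ym (h ≫ a')) (ym h) hab)
  have hσc : σ ≫ c = h ≫ a' := (AlgSp.yon S).map_injective (by rw [Functor.map_comp, hσ, IsPullback.lift_fst])
  have hσr : σ ≫ r = h := (AlgSp.yon S).map_injective (by rw [Functor.map_comp, hσ, IsPullback.lift_snd])
  let Q : Over S := Over.mk (pullback.fst h.left h.left ≫ W'.hom)
  let q₁ : Q ⟶ W' := Over.homMk (pullback.fst h.left h.left) rfl
  let q₂ : Q ⟶ W' := Over.homMk (pullback.snd h.left h.left) (by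
    show pullback.snd h.left h.left ≫ W'.hom = pullback.fst h.left h.left ≫ W'.hom
    rw [← Over.w h, ← Category.assoc, ← pullback.condition, Category.assoc])
  have hq : q₁ ≫ h = q₂ ≫ h := Over.OverMorphism.ext pullback.condition
  have hqσ : q₁ ≫ σ = q₂ ≫ σ := (AlgSp.yon S).map_injective (sq₂.hom_ext
    (by rw [← Functor.map_comp, ← Functor.map_comp, Category.assoc, Category.assoc, hσc, reassoc_of% hq])
    (by rw [← Functor.map_comp, ← Functor.map_comp, Category.assoc, Category.assoc, hσr, hq]))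
  obtain ⟨s₀, hs₁, hs₂⟩ := SubmDescLib.exists_desc h.left hh r.left (𝟙 W.left) σ.left
    (by rw [← Over.comp_left, hσr]; simp) (congrArg Over.Hom.left hqσ)
  let s : W ⟶ W₂ := Over.homMk s₀ (by rw [← Over.w r, ← Category.assoc, hs₁, Category.id_comp])
  have hsr : s ≫ r = 𝟙 W := Over.OverMorphism.ext hs₁
  have hhs : h ≫ s = σ := Over.OverMorphism.ext hs₂
  have hu : h ≫ s ≫ c = h ≫ a' := by rw [reassoc_of% hhs, hσc]
  have hua : s ≫ c = a' := by
    have hq' := QuotLib.isQuot_baseChange hρ sqh (pullAct_fst sqh hρ.inv) (pullAct_snd sqh hρ.inv)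
    exact Over.OverMorphism.ext (QuotLib.hom_ext hq' (congrArg Over.Hom.left hu))
  have hW : ym w ≫ a = ym w ≫ b := by
    rw [← sqW.w, ← hua, Functor.map_comp, Category.assoc, sq₂.w, ← Functor.map_comp_assoc, hsr]
    erw [(AlgSp.yon S).map_id W]
    rw [Category.id_comp]
  exact AlgSpLib.hom_ext_of_cover (κ := PUnit.{u + 1}) (fun _ => w) (fun _ => inferInstance)
    (fun _ => inferInstance) (fun x => ⟨PUnit.unit, w.left.surjective x⟩) fun _ => hW

/-- The action as morphisms over the base. -/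
noncomputable def σg (hρS : ∀ g : G, (ρ g).hom ≫ X.hom = X.hom) (g : G) : X ⟶ X :=
  Over.homMk (ρ g).hom (hρS g)

variable {N : AlgSp.Sp S} {ψ : (AlgSp.yon S).obj X ⟶ N}

/-- A separated quasi-compact chart of the pullback of an atlas. -/
theorem exists_chart [IsAffine X.left] [IsAffine Y.left] (hρ : SGA1.IsQuot ρ f.left)
    (hρS : ∀ g : G, (ρ g).hom ≫ X.hom = X.hom) (heff : EffEt f.left)
    {U' : Over S} {p : (AlgSp.yon S).obj U' ⟶ N} (hpe : AlgSp.RepWith @Etale p)
    (hps : AlgSp.RepWith @Surjective p) (hψ : ∀ g, ym (σg hρS g) ≫ ψ = ψ) (x : X.left) :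
    ∃ (U O : Over S) (v : U ⟶ Y) (q : O ⟶ U) (w : O ⟶ X) (u : U ⟶ U'),
      Etale v.left ∧ Etale w.left ∧ IsPullback w.left q.left f.left v.left ∧ x ∈ Set.range w.left ∧
        ym q ≫ ym u ≫ p = ym w ≫ ψ := by
  obtain ⟨W, c, w, sq⟩ := AlgSpLib.exists_isPullback_yon p ψ hpe.rep
  haveI : Etale w.left := hpe.property ψ _ _ sq
  haveI : Surjective w.left := hps.property ψ _ _ sq
  have hlift : ∀ g, ym c ≫ p = ym (w ≫ σg hρS g) ≫ ψ := fun g => by
    rw [Functor.map_comp, Category.assoc, hψ, sq.w]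
  choose τ hτ using fun g => (AlgSp.yon S).map_surjective (sq.lift (ym c) (ym (w ≫ σg hρS g)) (hlift g))
  have hτc : ∀ g, τ g ≫ c = c := fun g =>
    (AlgSp.yon S).map_injective (by rw [Functor.map_comp, hτ, IsPullback.lift_fst])
  have hτw : ∀ g, τ g ≫ w = w ≫ σg hρS g := fun g =>
    (AlgSp.yon S).map_injective (by rw [Functor.map_comp, hτ, IsPullback.lift_snd])
  have hext : ∀ ⦃T : Over S⦄ (a b : T ⟶ W), a ≫ c = b ≫ c → a ≫ w = b ≫ w → a = b := fun T a b e₁ e₂ =>
    (AlgSp.yon S).map_injective (sq.hom_ext (by rw [← Functor.map_comp, ← Functor.map_comp, e₁])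
      (by rw [← Functor.map_comp, ← Functor.map_comp, e₂]))
  have hσ₁ : σg hρS (1 : G) = 𝟙 X := Over.OverMorphism.ext (QuotLib.act_one ρ)
  have hσm : ∀ g h : G, σg hρS (g * h) = σg hρS h ≫ σg hρS g := fun g h =>
    Over.OverMorphism.ext (QuotLib.act_mul ρ g h)
  have hτ₁ : τ 1 = 𝟙 W := hext _ _ (by rw [hτc, Category.id_comp])
    (by rw [hτw, hσ₁, Category.comp_id, Category.id_comp])
  have hτm : ∀ g h, τ (g * h) = τ h ≫ τ g := fun g h => hext _ _
    (by rw [hτc, Category.assoc, hτc, hτc])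
    (by rw [hτw, hσm, Category.assoc, hτw, ← Category.assoc, ← hτw, Category.assoc])
  haveI : ∀ g, IsIso (τ g).left := fun g => ⟨(τ g⁻¹).left,
    by rw [← Over.comp_left, ← hτm, inv_mul_cancel, hτ₁]; rfl,
    by rw [← Over.comp_left, ← hτm, mul_inv_cancel, hτ₁]; rfl⟩
  obtain ⟨z, hz⟩ := w.left.surjective x
  obtain ⟨V, hV, hzV, -⟩ := QuotLib.exists_affine (show c.left z ∈ (⊤ : U'.left.Opens) from trivial)
  obtain ⟨O₁, hO₁, hzO, hOV⟩ := QuotLib.exists_affine (show z ∈ c.left ⁻¹ᵁ V from hzV)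
  let O : W.left.Opens := ⨆ g, (τ g).left ⁻¹ᵁ O₁
  have hO : ∀ g, ∀ y ∈ O, (τ g).left y ∈ O := fun g y hy => by
    obtain ⟨h, hh⟩ := TopologicalSpace.Opens.mem_iSup.1 hy
    refine TopologicalSpace.Opens.mem_iSup.2 ⟨h * g⁻¹, ?_⟩
    show (τ (h * g⁻¹)).left ((τ g).left y) ∈ O₁
    rw [← Scheme.Hom.comp_apply, ← Over.comp_left, ← hτm, inv_mul_cancel_right]
    exact hh
  have hOV' : Set.range (O.ι ≫ c.left) ⊆ Set.range V.ι := by
    rintro _ ⟨y, rfl⟩
    rw [Scheme.Opens.range_ι, Scheme.Hom.comp_apply]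
    obtain ⟨g, hg⟩ := TopologicalSpace.Opens.mem_iSup.1 y.2
    have := hOV hg
    show c.left y.1 ∈ V
    rw [← hτc g, Over.comp_left, Scheme.Hom.comp_apply]
    exact this
  have hτr : ∀ g, Set.range (O.ι ≫ (τ g).left) ⊆ Set.range O.ι := fun g => by
    rintro _ ⟨y, rfl⟩
    rw [Scheme.Opens.range_ι, Scheme.Hom.comp_apply]
    exact hO g _ y.2
  let τO : G → (O.toScheme ⟶ O.toScheme) := fun g => IsOpenImmersion.lift O.ι (O.ι ≫ (τ g).left) (hτr g)
  have hτO : ∀ g, τO g ≫ O.ι = O.ι ≫ (τ g).left := fun g => IsOpenImmersion.lift_fac _ _ _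
  let E : EqScheme ρ :=
    { W := O.toScheme
      w := O.ι ≫ w.left
      τ := τO
      hτ := fun g => by
        rw [← Category.assoc, hτO, Category.assoc, Category.assoc, ← Over.comp_left, hτw]
        rfl
      compat := fun g h T a e => by
        rw [← cancel_mono O.ι, Category.assoc, Category.assoc, hτO, hτO]
        let a' : Over.mk (a ≫ O.ι ≫ W.hom) ⟶ W := Over.homMk (a ≫ O.ι) (Category.assoc _ _ _)
        have key : a' ≫ τ g = a' ≫ τ h := hext _ _ (by rw [Category.assoc, Category.assoc, hτc, hτc]) (by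
          rw [Category.assoc, Category.assoc, hτw, hτw]
          apply Over.OverMorphism.ext
          simp only [Category.assoc] at e
          simp only [Over.comp_left, a', Over.homMk_left, σg, Category.assoc]
          exact e)
        have := congrArg Over.Hom.left key
        simp only [Over.comp_left, a', Over.homMk_left, Category.assoc] at this
        exact this
      one := by rw [← cancel_mono O.ι, hτO, hτ₁]; simp
      mul := fun g h => by
        rw [← cancel_mono O.ι, hτO, hτm, Over.comp_left, Category.assoc, hτO, ← Category.assoc (τO h), hτO,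
          Category.assoc] }
  haveI : Etale E.w := inferInstanceAs (Etale (O.ι ≫ w.left))
  haveI : QuasiCompact E.w := by
    haveI : CompactSpace O.toScheme := (isCompact_iff_compactSpace (s := (O : Set W.left))).mp (by
      rw [TopologicalSpace.Opens.coe_iSup]
      exact isCompact_iUnion fun g => (hO₁.preimage_of_isIso (τ g).left).isCompact)
    exact (quasiCompact_iff_compactSpace (O.ι ≫ w.left)).2 inferInstance
  haveI : IsSeparated E.w := by
    haveI : IsAffine V.toScheme := hV
    let cV := IsOpenImmersion.lift V.ι (O.ι ≫ c.left) hOV'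
    have hcV : cV ≫ V.ι = O.ι ≫ c.left := IsOpenImmersion.lift_fac _ _ _
    let vS := V.ι ≫ U'.hom
    haveI : IsSeparated vS := by
      haveI : IsSeparated (vS ≫ terminal.from S) := by
        rw [terminal.comp_from]; exact ⟨inferInstance⟩
      exact IsSeparated.of_comp vS (terminal.from S)
    let j : O.toScheme ⟶ pullback X.hom vS := pullback.lift (O.ι ≫ w.left) cV (by
      rw [← Category.assoc cV, hcV, Category.assoc, Category.assoc, Over.w w, Over.w c])
    haveI : Mono j := ⟨fun {T} a b e => by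
      have e₁ := congrArg (· ≫ pullback.fst X.hom vS) e
      have e₂ := congrArg (· ≫ pullback.snd X.hom vS ≫ V.ι) e
      simp only [j, Category.assoc, pullback.lift_fst, pullback.lift_snd_assoc, hcV] at e₁ e₂
      have eS : a ≫ O.ι ≫ W.hom = b ≫ O.ι ≫ W.hom := by rw [← Over.w w, reassoc_of% e₁]
      let a' : Over.mk (a ≫ O.ι ≫ W.hom) ⟶ W := Over.homMk (a ≫ O.ι) (Category.assoc _ _ _)
      let b' : Over.mk (a ≫ O.ι ≫ W.hom) ⟶ W :=
        Over.homMk (b ≫ O.ι) ((Category.assoc _ _ _).trans eS.symm)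
      have key : a' = b' := hext a' b'
        (Over.OverMorphism.ext (by simp only [Over.comp_left, a', b', Over.homMk_left, Category.assoc]; exact e₂))
        (Over.OverMorphism.ext (by simp only [Over.comp_left, a', b', Over.homMk_left, Category.assoc]; exact e₁))
      exact (cancel_mono O.ι).1 (congrArg Over.Hom.left key)⟩
    show IsSeparated (O.ι ≫ w.left)
    rw [show O.ι ≫ w.left = j ≫ pullback.fst X.hom vS from (pullback.lift_fst _ _ _).symm]
    infer_instance
  obtain ⟨U, v, q, hv, -, sqU, hq⟩ := exists_quot hρ E heff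
  obtain ⟨u, hu⟩ := QuotLib.exists_desc hq (O.ι ≫ c.left) fun g => by
    show τO g ≫ O.ι ≫ c.left = O.ι ≫ c.left
    rw [← Category.assoc, hτO, Category.assoc, ← Over.comp_left, hτc]
  have huS : u ≫ U'.hom = v ≫ Y.hom := QuotLib.hom_ext hq (by
    rw [← Category.assoc, hu, Category.assoc, Over.w c, ← Category.assoc, ← sqU.w]
    simp only [E, Category.assoc, Over.w f, Over.w w])
  let UU : Over S := Over.mk (v ≫ Y.hom)
  let OO : Over S := Over.mk (O.ι ≫ W.hom)
  let oι : OO ⟶ W := Over.homMk O.ι rfl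
  let qq : OO ⟶ UU := Over.homMk q (by
    show q ≫ v ≫ Y.hom = O.ι ≫ W.hom
    rw [← Category.assoc, ← sqU.w]
    simp only [E, Category.assoc, Over.w f, Over.w w])
  let uu : UU ⟶ U' := Over.homMk u huS
  have hqu : qq ≫ uu = oι ≫ c := Over.OverMorphism.ext hu
  refine ⟨UU, OO, Over.homMk v rfl, qq, oι ≫ w, uu, hv, ?_, sqU, ?_, ?_⟩
  · show Etale (O.ι ≫ w.left); infer_instance
  · have hz' : z ∈ O := TopologicalSpace.Opens.mem_iSup.2 ⟨1, by
      show (τ 1).left z ∈ O₁
      rw [hτ₁]; exact hzO⟩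
    exact ⟨⟨z, hz'⟩, by show (O.ι ≫ w.left) ⟨z, hz'⟩ = x; rw [Scheme.Hom.comp_apply]; exact hz⟩
  · rw [← Functor.map_comp_assoc, hqu, Functor.map_comp_assoc, sq.w, ← Functor.map_comp_assoc]

/-- The quotient is categorical among algebraic spaces. -/
theorem existsUnique_desc [IsAffine X.left] [IsAffine Y.left] (hρ : SGA1.IsQuot ρ f.left)
    (hρS : ∀ g : G, (ρ g).hom ≫ X.hom = X.hom) (heff : EffEt f.left)
    (hN : AlgSp.IsAlgSpace N) (hψ : ∀ g, ym (σg hρS g) ≫ ψ = ψ) :
    ∃! χ : (AlgSp.yon S).obj Y ⟶ N, ym f ≫ χ = ψ := by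
  obtain ⟨U', p, hpe, hps⟩ := hN.atlas
  choose U O v q w u hv hw sq hx hψq using exists_chart f hρ hρS heff hpe hps hψ
  have hsurj : ∀ y : Y.left, ∃ x, y ∈ Set.range (v x).left := fun y => by
    obtain ⟨x, rfl⟩ := QuotLib.surjective hρ y
    obtain ⟨z, hz⟩ := hx x
    exact ⟨x, (q x).left z, by rw [← Scheme.Hom.comp_apply, ← (sq x).w, Scheme.Hom.comp_apply, hz]⟩
  obtain ⟨χ, hχ⟩ := AlgSpLib.exists_amalgamation v (fun x => inferInstance) (fun x => inferInstance) hsurj
    (fun x => ym (u x) ≫ p) fun i j Z gi gj hg => by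
      let Z₀ : Over S := Over.mk (pullback.fst (v i).left (v j).left ≫ (U i).hom)
      let p₁ : Z₀ ⟶ U i := Over.homMk (pullback.fst (v i).left (v j).left) rfl
      let p₂ : Z₀ ⟶ U j := Over.homMk (pullback.snd (v i).left (v j).left) (by
        show pullback.snd (v i).left (v j).left ≫ (U j).hom = pullback.fst (v i).left (v j).left ≫ (U i).hom
        rw [← Over.w (v i), ← Over.w (v j), ← Category.assoc, ← pullback.condition, Category.assoc])
      have hp : p₁ ≫ v i = p₂ ≫ v j := Over.OverMorphism.ext pullback.condition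
      haveI : Flat (p₁ ≫ v i).left := by
        show Flat (pullback.fst (v i).left (v j).left ≫ (v i).left); infer_instance
      let T' : Over S := Over.mk (pullback.snd f.left (p₁ ≫ v i).left ≫ Z₀.hom)
      let pT : T' ⟶ Z₀ := Over.homMk (pullback.snd f.left (p₁ ≫ v i).left) rfl
      let pX : T' ⟶ X := Over.homMk (pullback.fst f.left (p₁ ≫ v i).left) (by
        show pullback.fst f.left (p₁ ≫ v i).left ≫ X.hom = pullback.snd f.left (p₁ ≫ v i).left ≫ Z₀.hom
        rw [← Over.w f, ← Over.w (p₁ ≫ v i), ← Category.assoc, pullback.condition, Category.assoc])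
      have hT : pX ≫ f = pT ≫ p₁ ≫ v i := Over.OverMorphism.ext pullback.condition
      have side : ∀ (k : X.left) (pk : Z₀ ⟶ U k), p₁ ≫ v i = pk ≫ v k →
          ym pT ≫ ym pk ≫ ym (u k) ≫ p = ym pX ≫ ψ := fun k pk hk => by
        have hT' : pX ≫ f = (pT ≫ pk) ≫ v k := by rw [Category.assoc, ← hk, hT]
        let m : T' ⟶ O k := Over.homMk ((sq k).lift pX.left (pT ≫ pk).left (congrArg Over.Hom.left hT')) (by
          rw [← Over.w (w k), IsPullback.lift_fst_assoc, Over.w pX])
        have hmq : m ≫ q k = pT ≫ pk := Over.OverMorphism.ext (IsPullback.lift_snd _ _ _ _)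
        have hmw : m ≫ w k = pX := Over.OverMorphism.ext (IsPullback.lift_fst _ _ _ _)
        rw [← Functor.map_comp_assoc, ← hmq, Functor.map_comp_assoc, hψq, ← Functor.map_comp_assoc, hmw]
      have key : ym p₁ ≫ ym (u i) ≫ p = ym p₂ ≫ ym (u j) ≫ p :=
        eq_of_quot f hρ hN (p₁ ≫ v i) pT pX (IsPullback.of_hasPullback _ _)
          ((side i p₁ rfl).trans (side j p₂ hp).symm)
      let l : Z ⟶ Z₀ := Over.homMk (pullback.lift gi.left gj.left (congrArg Over.Hom.left hg)) (by
        show _ ≫ pullback.fst (v i).left (v j).left ≫ (U i).hom = Z.hom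
        rw [pullback.lift_fst_assoc, Over.w gi])
      have hl₁ : l ≫ p₁ = gi := Over.OverMorphism.ext (pullback.lift_fst _ _ _)
      have hl₂ : l ≫ p₂ = gj := Over.OverMorphism.ext (pullback.lift_snd _ _ _)
      rw [← hl₁, ← hl₂, Functor.map_comp_assoc, Functor.map_comp_assoc, key]
  refine ⟨χ, ?_, fun χ' hχ' => ?_⟩
  · refine AlgSpLib.hom_ext_of_cover w (fun x => inferInstance) (fun x => inferInstance)
      (fun x => ⟨x, hx x⟩) fun x => ?_
    have hc : w x ≫ f = q x ≫ v x := Over.OverMorphism.ext (sq x).w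
    rw [← Functor.map_comp_assoc, hc, Functor.map_comp_assoc, hχ, hψq]
  · haveI : Flat (𝟙 Y : Y ⟶ Y).left := by rw [Over.id_left]; infer_instance
    refine eq_of_quot f hρ hN (𝟙 Y) f (𝟙 X) (IsPullback.of_vert_isIso (by simp)).flip (hχ'.trans ?_)
    symm
    refine AlgSpLib.hom_ext_of_cover w (fun x => inferInstance) (fun x => inferInstance)
      (fun x => ⟨x, hx x⟩) fun x => ?_
    have hc : w x ≫ f = q x ≫ v x := Over.OverMorphism.ext (sq x).w
    rw [← Functor.map_comp_assoc, hc, Functor.map_comp_assoc, hχ, hψq]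

end ConstQuotLib
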