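import Groth.Prelude
import Groth.Agent.QuotLib.GeomOrbit
import Groth.Agent.QuotLib.BaseChange
import Groth.Agent.SubmDescLib.Etale
import Groth.Agent.SubmDescLib.FiniteLocal
import Groth.Agent.CycBivLib.Disjoint
import Groth.Agent.S2905

/-!
# Descent of equivariant étale schemes along a finite quotient
-/

set_option autoImplicit false
set_option linter.all false
set_option backward.isDefEq.respectTransparency false
set_option backward.isDefEq.respectTransparency.types false

universe u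

open CategoryTheory CategoryTheory.Limits AlgebraicGeometry

namespace ConstQuotLib

/-- Descent data of quasi-compact separated étale schemes relative to `f` are effective. -/
def EffEt {X Y : Scheme.{u}} (f : X ⟶ Y) : Prop :=
  ∀ D : Desc.SchDD f, QuasiCompact D.obj.hom → IsSeparated D.obj.hom → Etale D.obj.hom →
    ∃ U : Over Y, QuasiCompact U.hom ∧ IsSeparated U.hom ∧ Etale U.hom ∧ Nonempty ((Desc.toDD f).obj U ≅ D)

/-- Finite surjective morphisms with noetherian target have effective descent for étale schemes. -/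
theorem effEt_of_finite {X Y : Scheme.{u}} (f : X ⟶ Y) [IsLocallyNoetherian Y] [IsFinite f] [Surjective f] :
    EffEt f := fun D _ _ _ =>
  Groth.Agent.S2905.result f (SubmDescLib.univSubmersive_of_universallyClosed_surjective f) D

/-- Morphisms to an unramified scheme agree if they agree at geometric points. -/
theorem eq_of_geomPoints {T W S : Scheme.{u}} (v : W ⟶ S) [FormallyUnramified v] [LocallyOfFiniteType v]
    {s t : T ⟶ W} (e : s ≫ v = t ≫ v)
    (h : ∀ (Ω : Type u) [Field Ω] [IsAlgClosed Ω] (z : Spec (CommRingCat.of Ω) ⟶ T), z ≫ s = z ≫ t) :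
    s = t := by
  let P := pullback (pullback.diagonal v) (pullback.lift s t e)
  haveI : IsOpenImmersion (pullback.snd (pullback.diagonal v) (pullback.lift s t e)) :=
    MorphismProperty.pullback_snd (P := @IsOpenImmersion) _ _ inferInstance
  haveI : Surjective (pullback.snd (pullback.diagonal v) (pullback.lift s t e)) := ⟨fun x => by
    let K := T.residueField x
    let z : Spec (CommRingCat.of (AlgebraicClosure K)) ⟶ T :=
      Spec.map (CommRingCat.ofHom (algebraMap K (AlgebraicClosure K))) ≫ T.fromSpecResidueField x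
    have hz := h (AlgebraicClosure K) z
    let l : Spec (CommRingCat.of (AlgebraicClosure K)) ⟶ P := pullback.lift (z ≫ s) z (by
      apply pullback.hom_ext
      · simp
      · simp [hz])
    refine ⟨l default, ?_⟩
    rw [← Scheme.Hom.comp_apply, pullback.lift_snd, Scheme.Hom.comp_apply]
    exact Scheme.fromSpecResidueField_apply _ _⟩
  exact SubmDescLib.hom_ext (pullback.snd (pullback.diagonal v) (pullback.lift s t e)) v e (by
    have c := pullback.condition (f := pullback.diagonal v) (g := pullback.lift s t e)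
    have c₁ := congrArg (· ≫ pullback.fst v v) c
    have c₂ := congrArg (· ≫ pullback.snd v v) c
    simp only [Category.assoc, pullback.diagonal_fst, pullback.diagonal_snd, pullback.lift_fst,
      pullback.lift_snd, Category.comp_id] at c₁ c₂
    rw [← c₁, ← c₂])

variable {X Y : Scheme.{u}} [IsAffine X] [IsAffine Y] (f : X ⟶ Y) {G : Type u} [Group G] [Finite G]
  {ρ : G →* Aut X}

/-- An equivariant scheme over `X` on which stabilizers act trivially. -/
structure EqScheme (ρ : G →* Aut X) where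
  W : Scheme.{u}
  w : W ⟶ X
  τ : G → (W ⟶ W)
  hτ : ∀ g, τ g ≫ w = w ≫ (ρ g).hom
  compat : ∀ (g h : G) ⦃T : Scheme.{u}⦄ (a : T ⟶ W), a ≫ w ≫ (ρ g).hom = a ≫ w ≫ (ρ h).hom →
    a ≫ τ g = a ≫ τ h
  one : τ 1 = 𝟙 W
  mul : ∀ g h, τ (g * h) = τ h ≫ τ g

variable {f}

/-- The orbit piece. -/
noncomputable def piece (hρ : SGA1.IsQuot ρ f) (E : EqScheme ρ) (g : G) :
    E.W ⟶ pullback (pullback.fst f f) E.w :=
  pullback.lift (pullback.lift E.w (E.w ≫ (ρ g).hom) (by rw [Category.assoc, hρ.inv g])) (𝟙 E.W)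
    (by rw [pullback.lift_fst, Category.id_comp])

theorem piece_of_point (hρ : SGA1.IsQuot ρ f) (E : EqScheme ρ) {Ω : Type u} [Field Ω]
    (z : Spec (CommRingCat.of Ω) ⟶ pullback (pullback.fst f f) E.w) :
    ∃ g : G, (z ≫ pullback.snd _ _) ≫ piece hρ E g = z := by
  obtain ⟨g, hg⟩ := QuotLib.geomOrbit_affine hρ (x := z ≫ pullback.fst _ _ ≫ pullback.fst f f)
    (x' := z ≫ pullback.fst _ _ ≫ pullback.snd f f) (by simp only [Category.assoc]; rw [pullback.condition])
  refine ⟨g, ?_⟩
  apply pullback.hom_ext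
  · simp only [piece, Category.assoc, pullback.lift_fst]
    apply pullback.hom_ext
    · simp only [Category.assoc, pullback.lift_fst]
      rw [← pullback.condition]
    · simp only [Category.assoc, pullback.lift_snd]
      rw [hg, ← reassoc_of% (pullback.condition (f := pullback.fst f f) (g := E.w))]
      simp only [Category.assoc]
  · simp [piece]

/-- The gluing morphism. -/
theorem exists_glue (hρ : SGA1.IsQuot ρ f) (E : EqScheme ρ) [Etale E.w] [IsSeparated E.w] :
    ∃ Φ : pullback (pullback.fst f f) E.w ⟶ E.W, Φ ≫ E.w = pullback.fst _ _ ≫ pullback.snd f f ∧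
      ∀ g, piece hρ E g ≫ Φ = E.τ g := by
  haveI := hρ.affine
  let P₂ := pullback (pullback.fst f f) E.w
  haveI : IsSeparated (pullback.snd (pullback.fst f f) E.w) :=
    MorphismProperty.pullback_snd (P := @IsSeparated) _ _ inferInstance
  haveI : ∀ g, IsClosedImmersion (piece hρ E g) := fun g => by
    haveI : IsClosedImmersion (piece hρ E g ≫ pullback.snd (pullback.fst f f) E.w) := by
      rw [piece, pullback.lift_snd]; infer_instance
    exact IsClosedImmersion.of_comp _ (pullback.snd (pullback.fst f f) E.w)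
  let h := Sigma.desc (piece hρ E)
  haveI : IsFinite h := CycBivLib.isFinite_sigmaDesc (piece hρ E) fun y => ⟨⊤, trivial, Set.toFinite _⟩
  haveI : Surjective h := ⟨fun x => by
    let K := P₂.residueField x
    obtain ⟨g, hg⟩ := piece_of_point hρ E (Ω := AlgebraicClosure K)
      (Spec.map (CommRingCat.ofHom (algebraMap K (AlgebraicClosure K))) ≫ P₂.fromSpecResidueField x)
    refine ⟨Sigma.ι (fun _ : G => E.W) g ((((Spec.map (CommRingCat.ofHom (algebraMap K (AlgebraicClosure K))) ≫
      P₂.fromSpecResidueField x) ≫ pullback.snd (pullback.fst f f) E.w)) default), ?_⟩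
    rw [← Scheme.Hom.comp_apply, Sigma.ι_desc, ← Scheme.Hom.comp_apply, hg, Scheme.Hom.comp_apply]
    exact Scheme.fromSpecResidueField_apply _ _⟩
  have hh := SubmDescLib.univSubmersive_of_universallyClosed_surjective h
  let y := Sigma.desc E.τ
  obtain ⟨Φ, hΦ₁, hΦ₂⟩ := SubmDescLib.exists_desc h hh E.w (pullback.fst _ _ ≫ pullback.snd f f) y
    (Sigma.hom_ext _ _ fun g => by
      simp only [y, h, Sigma.ι_desc_assoc, E.hτ, piece, pullback.lift_fst_assoc, pullback.lift_snd])
    (by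
      refine (Scheme.Pullback.openCoverOfLeftRight (sigmaOpenCover fun _ : G => E.W)
        (sigmaOpenCover fun _ : G => E.W) h h).hom_ext _ _ fun ⟨g, g'⟩ => ?_
      let P := pullback ((sigmaOpenCover fun _ : G => E.W).f g ≫ h) ((sigmaOpenCover fun _ : G => E.W).f g' ≫ h)
      let a : P ⟶ E.W := pullback.fst _ _
      let b : P ⟶ E.W := pullback.snd _ _
      have e : a ≫ piece hρ E g = b ≫ piece hρ E g' := by
        have := pullback.condition (f := (sigmaOpenCover fun _ : G => E.W).f g ≫ h)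
          (g := (sigmaOpenCover fun _ : G => E.W).f g' ≫ h)
        change a ≫ (Sigma.ι (fun _ : G => E.W) g ≫ h) = b ≫ (Sigma.ι (fun _ : G => E.W) g' ≫ h) at this
        simpa only [h, Sigma.ι_desc] using this
      have eab : a = b := by
        have := congrArg (· ≫ pullback.snd (pullback.fst f f) E.w) e
        simpa only [piece, Category.assoc, pullback.lift_snd, Category.comp_id] using this
      have hc : a ≫ E.w ≫ (ρ g).hom = a ≫ E.w ≫ (ρ g').hom := by
        have := congrArg (· ≫ pullback.fst (pullback.fst f f) E.w ≫ pullback.snd f f) e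
        simp only [piece, Category.assoc, pullback.lift_fst_assoc, pullback.lift_snd] at this
        rw [← eab] at this
        exact this
      simp only [Scheme.Pullback.openCoverOfLeftRight_f, pullback.lift_fst_assoc, pullback.lift_snd_assoc,
        pullback.map]
      change (a ≫ Sigma.ι (fun _ : G => E.W) g) ≫ y = (b ≫ Sigma.ι (fun _ : G => E.W) g') ≫ y
      simp only [y, Category.assoc, Sigma.ι_desc, ← eab]
      exact E.compat g g' a hc)
  exact ⟨Φ, hΦ₁, fun g => by
    have := congrArg (Sigma.ι (fun _ : G => E.W) g ≫ ·) hΦ₂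
    simpa only [h, y, Sigma.ι_desc_assoc, Sigma.ι_desc] using this⟩

variable (hρ : SGA1.IsQuot ρ f) (E : EqScheme ρ) [Etale E.w] [IsSeparated E.w]

/-- The chosen gluing morphism. -/
noncomputable def glue : pullback (pullback.fst f f) E.w ⟶ E.W := (exists_glue hρ E).choose

theorem glue_w : glue hρ E ≫ E.w = pullback.fst _ _ ≫ pullback.snd f f := (exists_glue hρ E).choose_spec.1

theorem piece_glue (g : G) : piece hρ E g ≫ glue hρ E = E.τ g := (exists_glue hρ E).choose_spec.2 g

/-- Moving a point. -/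
noncomputable def move ⦃T : Scheme.{u}⦄ (x₀ x₁ : T ⟶ X) (h : x₀ ≫ f = x₁ ≫ f) (v : T ⟶ E.W) (hv : v ≫ E.w = x₀) :
    T ⟶ E.W :=
  pullback.lift (pullback.lift x₀ x₁ h) v (by rw [pullback.lift_fst, hv]) ≫ glue hρ E

theorem move_w ⦃T : Scheme.{u}⦄ (x₀ x₁ : T ⟶ X) (h : x₀ ≫ f = x₁ ≫ f) (v : T ⟶ E.W) (hv : v ≫ E.w = x₀) :
    move hρ E x₀ x₁ h v hv ≫ E.w = x₁ := by
  rw [move, Category.assoc, glue_w, pullback.lift_fst_assoc, pullback.lift_snd]

theorem move_comp ⦃T T' : Scheme.{u}⦄ (a : T' ⟶ T) (x₀ x₁ : T ⟶ X) (h : x₀ ≫ f = x₁ ≫ f) (v : T ⟶ E.W)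
    (hv : v ≫ E.w = x₀) :
    a ≫ move hρ E x₀ x₁ h v hv =
      move hρ E (a ≫ x₀) (a ≫ x₁) (by simp [h]) (a ≫ v) (by simp [hv]) := by
  rw [move, move, ← Category.assoc]
  congr 1
  apply pullback.hom_ext
  · rw [Category.assoc, pullback.lift_fst, pullback.lift_fst]
    apply pullback.hom_ext <;> simp
  · simp

theorem move_eq ⦃T : Scheme.{u}⦄ (g : G) (x₀ x₁ : T ⟶ X) (h : x₀ ≫ f = x₁ ≫ f) (v : T ⟶ E.W)
    (hv : v ≫ E.w = x₀) (hg : x₁ = x₀ ≫ (ρ g).hom) : move hρ E x₀ x₁ h v hv = v ≫ E.τ g := by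
  rw [← piece_glue hρ E g, move, ← Category.assoc]
  congr 1
  apply pullback.hom_ext
  · apply pullback.hom_ext
    · simp [piece, hv]
    · simp only [piece, Category.assoc, pullback.lift_fst, pullback.lift_fst_assoc, pullback.lift_snd, hg]
      rw [← hv, Category.assoc]
  · simp [piece]

theorem move_self ⦃T : Scheme.{u}⦄ (x : T ⟶ X) (v : T ⟶ E.W) (hv : v ≫ E.w = x) :
    move hρ E x x rfl v hv = v := by
  rw [move_eq hρ E 1 x x rfl v hv (by rw [map_one]; exact (Category.comp_id x).symm), E.one, Category.comp_id]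

theorem move_move ⦃T : Scheme.{u}⦄ (x₀ x₁ x₂ : T ⟶ X) (h₀₁ : x₀ ≫ f = x₁ ≫ f) (h₁₂ : x₁ ≫ f = x₂ ≫ f)
    (v : T ⟶ E.W) (hv : v ≫ E.w = x₀) :
    move hρ E x₁ x₂ h₁₂ (move hρ E x₀ x₁ h₀₁ v hv) (move_w hρ E x₀ x₁ h₀₁ v hv) =
      move hρ E x₀ x₂ (h₀₁.trans h₁₂) v hv := by
  refine eq_of_geomPoints E.w (by rw [move_w, move_w]) fun Ω _ _ z => ?_
  obtain ⟨g, hg⟩ := QuotLib.geomOrbit_affine hρ (x := z ≫ x₀) (x' := z ≫ x₁) (by simp [h₀₁])
  obtain ⟨g', hg'⟩ := QuotLib.geomOrbit_affine hρ (x := z ≫ x₁) (x' := z ≫ x₂) (by simp [h₁₂])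
  have hm : z ≫ move hρ E x₀ x₁ h₀₁ v hv = (z ≫ v) ≫ E.τ g := by rw [move_comp, move_eq hρ E g _ _ _ _ _ hg]
  rw [move_comp, move_eq hρ E g' _ _ _ _ _ hg', hm, move_comp,
    move_eq hρ E (g' * g) _ _ _ _ _ (by rw [hg', hg, map_mul, Category.assoc]; rfl), E.mul]
  simp only [Category.assoc]

/-- The descent datum. -/
noncomputable def datum : Desc.SchDD f where
  obj := Over.mk E.w
  φ T x₀ x₁ h :=
    { toFun := fun v => ⟨move hρ E x₀ x₁ h v.1 v.2, move_w hρ E x₀ x₁ h v.1 v.2⟩
      invFun := fun v => ⟨move hρ E x₁ x₀ h.symm v.1 v.2, move_w hρ E x₁ x₀ h.symm v.1 v.2⟩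
      left_inv := fun v => Subtype.ext ((move_move hρ E x₀ x₁ x₀ h h.symm v.1 v.2).trans (move_self hρ E x₀ v.1 v.2))
      right_inv := fun v => Subtype.ext ((move_move hρ E x₁ x₀ x₁ h.symm h v.1 v.2).trans (move_self hρ E x₁ v.1 v.2)) }
  φ_natural T T' g x₀ x₁ h h' v v' hv' := by
    change move hρ E _ _ h' v'.1 v'.2 = g ≫ move hρ E x₀ x₁ h v.1 v.2
    rw [move_comp]
    congr 1
  φ_self T x v := Subtype.ext (move_self hρ E x v.1 v.2)
  φ_comp T x₀ x₁ x₂ h₀₁ h₁₂ v := Subtype.ext (move_move hρ E x₀ x₁ x₂ h₀₁ h₁₂ v.1 v.2)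

/-- The action on the scheme. -/
noncomputable def autOf (E : EqScheme ρ) : G →* Aut E.W where
  toFun g := ⟨E.τ g, E.τ g⁻¹, by rw [← E.mul, inv_mul_cancel, E.one], by rw [← E.mul, mul_inv_cancel, E.one]⟩
  map_one' := Iso.ext E.one
  map_mul' g h := Iso.ext (E.mul g h)

include hρ in
/-- The quotient of an equivariant étale scheme. -/
theorem exists_quot (heff : EffEt f) [QuasiCompact E.w] :
    ∃ (U : Scheme.{u}) (v : U ⟶ Y) (q : E.W ⟶ U), Etale v ∧ QuasiCompact v ∧ IsPullback E.w q f v ∧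
      SGA1.IsQuot (autOf E) q := by
  let D := datum hρ E
  haveI : QuasiCompact D.obj.hom := inferInstanceAs (QuasiCompact E.w)
  haveI : IsSeparated D.obj.hom := inferInstanceAs (IsSeparated E.w)
  haveI : Etale D.obj.hom := inferInstanceAs (Etale E.w)
  obtain ⟨U, hU₁, -, hU₂, ⟨e⟩⟩ := heff D inferInstance inferInstance inferInstance
  let q : E.W ⟶ U.left := e.inv.hom.left ≫ pullback.snd f U.hom
  have hw : e.inv.hom.left ≫ pullback.fst f U.hom = E.w := Over.w e.inv.hom
  haveI : IsIso e.inv.hom.left := by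
    refine ⟨e.hom.hom.left, ?_, ?_⟩
    · rw [← Over.comp_left, ← Desc.SchDD.comp_hom, e.inv_hom_id]; rfl
    · rw [← Over.comp_left, ← Desc.SchDD.comp_hom, e.hom_inv_id]; rfl
  have sq : IsPullback E.w q f U.hom :=
    (IsPullback.of_hasPullback f U.hom).of_iso (asIso e.inv.hom.left).symm (Iso.refl _) (Iso.refl _) (Iso.refl _)
      (by simp [← hw]) (by simp [q]) (by simp) (by simp)
  have hq : ∀ g, E.τ g ≫ q = q := fun g => by
    have hc := e.inv.comm E.w (E.w ≫ (ρ g).hom) (by rw [Category.assoc, hρ.inv g])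
      (⟨𝟙 E.W, Category.id_comp _⟩ : Desc.Lifts D.obj E.w)
      ⟨e.inv.hom.left, hw⟩ (Category.id_comp _).symm
    have hm : (D.φ E.w (E.w ≫ (ρ g).hom) (by rw [Category.assoc, hρ.inv g])
        ⟨𝟙 E.W, Category.id_comp _⟩).1 = E.τ g :=
      (move_eq hρ E g E.w (E.w ≫ (ρ g).hom) (by rw [Category.assoc, hρ.inv g]) (𝟙 E.W) (Category.id_comp _) rfl).trans (Category.id_comp _)
    rw [hm] at hc
    have := congrArg (· ≫ pullback.snd f U.hom) hc
    simp only [Category.assoc] at this
    rw [show E.τ g ≫ q = E.τ g ≫ e.inv.hom.left ≫ pullback.snd f U.hom from rfl, ← this]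
    exact pullback.lift_snd _ _ _
  haveI := hU₂
  exact ⟨U.left, U.hom, q, hU₂, hU₁, sq, QuotLib.isQuot_baseChange hρ sq (fun g => E.hτ g) hq⟩

end ConstQuotLib
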