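import Groth.Agent.ConstQuotLib.EffLimit
import Mathlib.RingTheory.Extension.Presentation.Core

/-!
# Effective descent of étale schemes along finitely presented finite surjections
-/

set_option autoImplicit false
set_option linter.all false
set_option backward.isDefEq.respectTransparency false
set_option backward.isDefEq.respectTransparency.types false

universe u

open CategoryTheory CategoryTheory.Limits AlgebraicGeometry TensorProduct

noncomputable section

namespace ConstQuotLib

open MvPolynomial in
/-- A finite algebra of finite presentation has a finite model over a noetherian subring. -/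
theorem exists_finite_model (R S : Type u) [CommRing R] [CommRing S] [Algebra R S] [Module.Finite R S]
    [Algebra.FinitePresentation R S] :
    ∃ (R₀ S₀ : CommRingCat.{u}) (j : R₀ ⟶ CommRingCat.of R) (ψ : R₀ ⟶ S₀) (q : S₀ ⟶ CommRingCat.of S),
      IsNoetherianRing R₀ ∧ Function.Injective j.hom ∧ ψ.hom.Finite ∧
      IsPushout j ψ (CommRingCat.ofHom (algebraMap R S)) q := by
  classical
  obtain ⟨n, φ, hφ, ⟨t, ht⟩⟩ := (inferInstance : Algebra.FinitePresentation R S).out
  choose P hPm hP using fun i : Fin n => Algebra.IsIntegral.isIntegral (R := R) (φ (X i))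
  let v : Fin n ⊕ t → MvPolynomial (Fin n) R := Sum.elim (fun i => Polynomial.aeval (X i) (P i)) (fun x => x.1)
  have hv : Ideal.span (Set.range v) = RingHom.ker φ.toRingHom := by
    refine le_antisymm (Ideal.span_le.2 ?_) (ht ▸ Ideal.span_mono ?_)
    · rintro _ ⟨i | x, rfl⟩
      · show φ (Polynomial.aeval (X i) (P i)) = 0
        rw [← Polynomial.aeval_algHom_apply]
        exact hP i
      · exact ht ▸ Ideal.subset_span x.2
    · exact fun x hx => ⟨Sum.inr ⟨x, hx⟩, rfl⟩
  let T := MvPolynomial (Fin n) R ⧸ Ideal.span (Set.range v)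
  let e : T ≃ₐ[R] S := (Ideal.quotientEquivAlgOfEq R hv).trans (Ideal.quotientKerAlgEquivOfSurjective hφ)
  let Q : Algebra.Presentation R T (Fin n) (Fin n ⊕ t) := Algebra.Presentation.naive
  let R₀ := Q.Core
  let M := Q.ModelOfHasCoeffs R₀
  have hinj : Function.Injective (algebraMap R₀ R) := FaithfulSMul.algebraMap_injective R₀ R
  haveI : Module.Finite R₀ M := by
    haveI : Algebra.IsIntegral R₀ M := by
      refine ⟨fun m => ?_⟩
      obtain ⟨p, rfl⟩ := Ideal.Quotient.mk_surjective m
      induction p using MvPolynomial.induction_on with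
      | C r => exact isIntegral_algebraMap (R := R₀) (A := M) (x := r)
      | add p q hp hq => rw [map_add]; exact hp.add hq
      | mul_X p i hp =>
        rw [map_mul]
        refine hp.mul ?_
        have hc : P i ∈ Polynomial.lifts (algebraMap R₀ R) := by
          rw [Polynomial.lifts_iff_coeff_lifts]
          intro k
          refine ⟨(Q.relationOfHasCoeffs R₀ (Sum.inl i)).coeff (Finsupp.single i k), ?_⟩
          rw [← MvPolynomial.coeff_map, Q.map_relationOfHasCoeffs]
          show MvPolynomial.coeff _ (Polynomial.aeval (X i) (P i)) = _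
          rw [Polynomial.aeval_eq_sum_range, MvPolynomial.coeff_sum]
          simp only [MvPolynomial.coeff_smul, MvPolynomial.coeff_X_pow, Finsupp.single_left_inj, smul_eq_mul,
            mul_ite, mul_one, mul_zero, (Finsupp.single_injective i).eq_iff, Finset.sum_ite_eq', Finset.mem_range]
          split_ifs with h
          · rfl
          · exact (Polynomial.coeff_eq_zero_of_natDegree_lt (by omega)).symm
        rcases subsingleton_or_nontrivial R with hR | hR
        · haveI : Subsingleton R₀ := hinj.subsingleton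
          haveI : Subsingleton M := Module.subsingleton R₀ M
          rw [Subsingleton.elim (Ideal.Quotient.mk _ (X i) : M) 0]
          exact isIntegral_zero
        obtain ⟨p₀, hp₀, -, hm₀⟩ := Polynomial.lifts_and_natDegree_eq_and_monic hc (hPm i)
        refine ⟨p₀, hm₀, ?_⟩
        have h₀ : Polynomial.aeval (X i : MvPolynomial (Fin n) R₀) p₀ = Q.relationOfHasCoeffs R₀ (Sum.inl i) := by
          refine MvPolynomial.map_injective _ hinj ?_
          rw [Q.map_relationOfHasCoeffs]
          show MvPolynomial.map _ _ = Polynomial.aeval (X i) (P i)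
          rw [← hp₀, Polynomial.aeval_map_algebraMap, ← MvPolynomial.map_X (algebraMap R₀ R) i]
          exact (Polynomial.aeval_algHom_apply
            (MvPolynomial.mapAlgHom (σ := Fin n) (Algebra.ofId R₀ R)) (X i) p₀).symm
        have h₁ : Polynomial.aeval (Ideal.Quotient.mk _ (X i) : M) p₀ = 0 := by
          show Polynomial.aeval (Ideal.Quotient.mkₐ R₀ _ (X i)) p₀ = 0
          rw [Polynomial.aeval_algHom_apply, h₀]
          exact Ideal.Quotient.eq_zero_iff_mem.2 (Ideal.subset_span ⟨_, rfl⟩)
        exact h₁
    exact Algebra.IsIntegral.finite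
  haveI : IsNoetherianRing R₀ := Algebra.FiniteType.isNoetherianRing ℤ R₀
  let E : (CommRingCat.of (R ⊗[R₀] M)) ≅ CommRingCat.of S :=
    ((Q.tensorModelOfHasCoeffsEquiv R₀).trans e).toRingEquiv.toCommRingCatIso
  refine ⟨CommRingCat.of R₀, CommRingCat.of M, CommRingCat.ofHom (algebraMap R₀ R),
    CommRingCat.ofHom (algebraMap R₀ M),
    CommRingCat.ofHom (Algebra.TensorProduct.includeRight (R := R₀) (A := R) (B := M)).toRingHom ≫ E.hom,
    inferInstance, hinj, RingHom.finite_algebraMap.2 inferInstance, ?_⟩
  refine (CommRingCat.isPushout_tensorProduct R₀ R M).of_iso (Iso.refl _) (Iso.refl _) (Iso.refl _) E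
    (by simp) (by simp) ?_ (by simp)
  ext r
  exact (((Q.tensorModelOfHasCoeffsEquiv R₀).trans e).commutes r)

/-- Effectivity along finite surjections of finite presentation, affine base. -/
theorem effEt_affine {X Y : Scheme.{u}} (f : X ⟶ Y) [IsAffine Y] [IsFinite f] [Surjective f]
    [LocallyOfFinitePresentation f] : EffEt f := by
  haveI : IsAffine X := isAffine_of_isAffineHom f
  algebraize [f.appTop.hom]
  haveI : Module.Finite Γ(Y, ⊤) Γ(X, ⊤) :=
    RingHom.finite_algebraMap.1 ((HasAffineProperty.iff_of_isAffine (P := @IsFinite)).1 ‹IsFinite f›).2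
  haveI : Algebra.FinitePresentation Γ(Y, ⊤) Γ(X, ⊤) :=
    RingHom.finitePresentation_algebraMap.1
      ((HasRingHomProperty.iff_of_isAffine (P := @LocallyOfFinitePresentation)).1 ‹_›)
  obtain ⟨R₀, S₀, j, ψ, q, _, hj, hψ, hpo⟩ := exists_finite_model Γ(Y, ⊤) Γ(X, ⊤)
  haveI : IsLocallyNoetherian (Spec R₀) := inferInstance
  haveI : IsFinite (Spec.map ψ) := (IsFinite.SpecMap_iff _).2 hψ
  have sq : IsPullback (X.isoSpec.hom ≫ Spec.map q) f (Spec.map ψ) (Y.isoSpec.hom ≫ Spec.map j) :=
    (isPullback_SpecMap_of_isPushout _ _ _ _ hpo).flip.of_iso X.isoSpec.symm (Iso.refl _) Y.isoSpec.symm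
      (Iso.refl _) (by simp) (by
        simp only [Iso.symm_hom]
        rw [Iso.eq_inv_comp, ← Category.assoc, Iso.comp_inv_eq]
        exact Scheme.isoSpec_hom_naturality f) (by simp) (by simp)
  haveI : Surjective (Spec.map ψ) := by
    refine ⟨Set.range_eq_univ.1 (Set.eq_univ_of_univ_subset ?_)⟩
    have hd : DenseRange (Spec.map j) := by
      refine PrimeSpectrum.denseRange_comap_iff_ker_le_nilRadical _ |>.2 ?_
      rw [(RingHom.injective_iff_ker_eq_bot j.hom).1 hj]
      exact bot_le
    rw [← hd.closure_range]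
    refine closure_minimal ?_ (Spec.map ψ).isClosedMap.isClosed_range
    rintro _ ⟨y, rfl⟩
    obtain ⟨x, hx⟩ := f.surjective (Y.isoSpec.inv y)
    refine ⟨(X.isoSpec.hom ≫ Spec.map q) x, ?_⟩
    rw [← Scheme.Hom.comp_apply, sq.w, Scheme.Hom.comp_apply, hx, ← Scheme.Hom.comp_apply,
      Iso.inv_hom_id_assoc]
    rfl
  exact effEt_baseChange (Spec.map ψ) _ sq

end ConstQuotLib
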