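import Groth.Agent.ConstQuotLib.Core
import Groth.Agent.ConsLib.FGSystem
import Groth.Agent.DescFP.Main
import Groth.Agent.DescFP.Hom
import Groth.Agent.RichLib.LimitDescentFlat
import Groth.Agent.RichLib.LimitDescentProps

/-!
# Effective descent of étale schemes along base changes of finite surjections
-/

set_option autoImplicit false
set_option linter.all false
set_option backward.isDefEq.respectTransparency false
set_option backward.isDefEq.respectTransparency.types false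

universe u

open CategoryTheory CategoryTheory.Limits AlgebraicGeometry RichLib.LimBC

noncomputable section

namespace ConstQuotLib

/-- An isomorphism of the schemes compatible with the gluing gives an isomorphism of descent data. -/
def schDDIso {X S : Scheme.{u}} {p : X ⟶ S} {D D' : Desc.SchDD p} (α : D.obj ≅ D'.obj)
    (comm : ∀ ⦃T : Scheme.{u}⦄ (x₀ x₁ : T ⟶ X) (h : x₀ ≫ p = x₁ ≫ p) (v : Desc.Lifts D.obj x₀)
      (w : Desc.Lifts D'.obj x₀), w.1 = v.1 ≫ α.hom.left →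
      (D'.φ x₀ x₁ h w).1 = (D.φ x₀ x₁ h v).1 ≫ α.hom.left) : D ≅ D' where
  hom := ⟨α.hom, comm⟩
  inv := ⟨α.inv, fun T x₀ x₁ h v w hw => by
    have := comm x₀ x₁ h w v (by rw [hw, Category.assoc, ← Over.comp_left, α.inv_hom_id]; simp)
    rw [this, Category.assoc, ← Over.comp_left, α.hom_inv_id]
    simp⟩
  hom_inv_id := Desc.SchDD.Hom.ext α.hom_inv_id
  inv_hom_id := Desc.SchDD.Hom.ext α.inv_hom_id

variable {I : Type u} [SmallCategory I] [IsCofiltered I] {S₀ : Scheme.{u}} (A : Sys I S₀)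
  {X' : Scheme.{u}} {f' : X' ⟶ A.c.pt} (D : Desc.SchDD f')

/-- A model of a descent datum at a stage. -/
structure Mdl (k : I) where
  X : Scheme.{u}
  f : X ⟶ A.D.obj k
  pX : X' ⟶ X
  sqX : IsPullback pX f' f (A.c.π.app k)
  W : Scheme.{u}
  w : W ⟶ X
  pW : D.obj.left ⟶ W
  sqW : IsPullback pW D.obj.hom w pX
  fin : IsFinite f
  surj : Surjective f
  lfp : LocallyOfFinitePresentation w
  qc : QuasiCompact w
  qs : QuasiSeparated w

variable {A D}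

theorem φ_congr {T : Scheme.{u}} {x₀ x₁ y₀ y₁ : T ⟶ X'} (e₀ : x₀ = y₀) (e₁ : x₁ = y₁) (h : x₀ ≫ f' = x₁ ≫ f')
    (h' : y₀ ≫ f' = y₁ ≫ f') (v : Desc.Lifts D.obj x₀) (w : Desc.Lifts D.obj y₀) (e : v.1 = w.1) :
    (D.φ x₀ x₁ h v).1 = (D.φ y₀ y₁ h' w).1 := by
  subst e₀ e₁
  rw [Subtype.ext e]

namespace Mdl

variable {k : I} (M : Mdl A D k)

attribute [instance] Mdl.fin Mdl.surj Mdl.lfp Mdl.qc Mdl.qs

/-- The source of the gluing morphism. -/
abbrev P : Scheme.{u} := pullback (pullback.fst M.f M.f) M.w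

/-- The structure map of the source of the gluing morphism. -/
abbrev pP : M.P ⟶ A.D.obj k := pullback.fst _ _ ≫ pullback.fst M.f M.f ≫ M.f

/-- A point of the source of the gluing morphism. -/
abbrev pt {T : Scheme.{u}} (x₀ x₁ : T ⟶ M.X) (h : x₀ ≫ M.f = x₁ ≫ M.f) (v : T ⟶ M.W) (hv : v ≫ M.w = x₀) :
    T ⟶ M.P :=
  pullback.lift (pullback.lift x₀ x₁ h) v (by rw [pullback.lift_fst, hv])

theorem comp_pt {T T' : Scheme.{u}} (a : T' ⟶ T) (x₀ x₁ : T ⟶ M.X) (h : x₀ ≫ M.f = x₁ ≫ M.f) (v : T ⟶ M.W)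
    (hv : v ≫ M.w = x₀) :
    a ≫ M.pt x₀ x₁ h v hv = M.pt (a ≫ x₀) (a ≫ x₁) (by simp [h]) (a ≫ v) (by simp [hv]) := by
  apply pullback.hom_ext
  · apply pullback.hom_ext <;> simp
  · simp

/-- A point of the source together with a point of the limit is a point of the datum. -/
theorem exists_lim_point {T : Scheme.{u}} (q : T ⟶ M.P) (y : T ⟶ A.c.pt) (h : q ≫ M.pP = y ≫ A.c.π.app k) :
    ∃ (x₀ x₁ : T ⟶ X') (hx : x₀ ≫ f' = x₁ ≫ f') (v : Desc.Lifts D.obj x₀) (hv : (v.1 ≫ M.pW) ≫ M.w = x₀ ≫ M.pX)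
      (hx' : (x₀ ≫ M.pX) ≫ M.f = (x₁ ≫ M.pX) ≫ M.f),
      x₀ ≫ f' = y ∧ q = M.pt (x₀ ≫ M.pX) (x₁ ≫ M.pX) hx' (v.1 ≫ M.pW) hv := by
  let x₀ := M.sqX.lift (q ≫ pullback.fst _ _ ≫ pullback.fst _ _) y (by simpa only [Category.assoc] using h)
  let x₁ := M.sqX.lift (q ≫ pullback.fst _ _ ≫ pullback.snd _ _) y
    (by simp only [Category.assoc]; rw [← pullback.condition]; simpa only [Category.assoc] using h)
  have hx₀ : x₀ ≫ M.pX = q ≫ pullback.fst _ _ ≫ pullback.fst _ _ := M.sqX.lift_fst _ _ _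
  have hx₁ : x₁ ≫ M.pX = q ≫ pullback.fst _ _ ≫ pullback.snd _ _ := M.sqX.lift_fst _ _ _
  let v := M.sqW.lift (q ≫ pullback.snd _ _) x₀ (by rw [hx₀, Category.assoc, ← pullback.condition])
  have hv₁ : v ≫ M.pW = q ≫ pullback.snd _ _ := M.sqW.lift_fst _ _ _
  have hv₂ : v ≫ D.obj.hom = x₀ := M.sqW.lift_snd _ _ _
  refine ⟨x₀, x₁, by rw [M.sqX.lift_snd, M.sqX.lift_snd], ⟨v, hv₂⟩,
    by show (v ≫ M.pW) ≫ M.w = _; rw [Category.assoc, M.sqW.w, ← Category.assoc, hv₂],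
    by rw [hx₀, hx₁]; simp only [Category.assoc]; rw [pullback.condition], M.sqX.lift_snd _ _ _, ?_⟩
  apply pullback.hom_ext
  · apply pullback.hom_ext
    · rw [pullback.lift_fst, pullback.lift_fst, Category.assoc, hx₀]
    · rw [pullback.lift_fst, pullback.lift_snd, Category.assoc, hx₁]
  · rw [pullback.lift_snd]; exact hv₁.symm

/-- A gluing morphism of a model. -/
structure Glue (Φ : M.P ⟶ M.W) : Prop where
  over' : Φ ≫ M.w ≫ M.f = M.pP
  compat : ∀ ⦃T : Scheme.{u}⦄ (x₀ x₁ : T ⟶ X') (h : x₀ ≫ f' = x₁ ≫ f') (v : Desc.Lifts D.obj x₀)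
    (hx : (x₀ ≫ M.pX) ≫ M.f = (x₁ ≫ M.pX) ≫ M.f) (hv : (v.1 ≫ M.pW) ≫ M.w = x₀ ≫ M.pX),
    M.pt (x₀ ≫ M.pX) (x₁ ≫ M.pX) hx (v.1 ≫ M.pW) hv ≫ Φ = (D.φ x₀ x₁ h v).1 ≫ M.pW

/-- The gluing is over the second projection. -/
def Pr₂ (Φ : M.P ⟶ M.W) : Prop := Φ ≫ M.w = pullback.fst _ _ ≫ pullback.snd M.f M.f

theorem pr₂_pt {Φ : M.P ⟶ M.W} (hp : M.Pr₂ Φ) {T : Scheme.{u}} (x₀ x₁ : T ⟶ M.X) (h : x₀ ≫ M.f = x₁ ≫ M.f)
    (v : T ⟶ M.W) (hv : v ≫ M.w = x₀) : (M.pt x₀ x₁ h v hv ≫ Φ) ≫ M.w = x₁ := by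
  rw [Category.assoc, hp, pullback.lift_fst_assoc, pullback.lift_snd]

/-- The gluing is trivial on the diagonal. -/
def Self (Φ : M.P ⟶ M.W) : Prop :=
  ∀ ⦃T : Scheme.{u}⦄ (x : T ⟶ M.X) (v : T ⟶ M.W) (hv : v ≫ M.w = x), M.pt x x rfl v hv ≫ Φ = v

/-- The cocycle condition. -/
def Comp (Φ : M.P ⟶ M.W) : Prop :=
  ∀ ⦃T : Scheme.{u}⦄ (x₀ x₁ x₂ : T ⟶ M.X) (h : x₀ ≫ M.f = x₁ ≫ M.f) (h' : x₁ ≫ M.f = x₂ ≫ M.f) (v : T ⟶ M.W)
    (hv : v ≫ M.w = x₀) (hv' : (M.pt x₀ x₁ h v hv ≫ Φ) ≫ M.w = x₁),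
    M.pt x₁ x₂ h' (M.pt x₀ x₁ h v hv ≫ Φ) hv' ≫ Φ = M.pt x₀ x₂ (h.trans h') v hv ≫ Φ

section bc

variable {j : I} (φ : j ⟶ k)

/-- Moving a model to a later stage. -/
def bc : Mdl A D j where
  X := pullback M.f (A.D.map φ)
  f := pullback.snd _ _
  pX := pullback.lift M.pX (f' ≫ A.c.π.app j) (by rw [M.sqX.w, Category.assoc, A.c.w])
  sqX := by
    refine IsPullback.of_right ?_ (pullback.lift_snd _ _ _) (IsPullback.of_hasPullback M.f (A.D.map φ))
    rw [pullback.lift_fst, A.c.w]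
    exact M.sqX
  W := pullback M.w (pullback.fst M.f (A.D.map φ))
  w := pullback.snd _ _
  pW := pullback.lift M.pW (D.obj.hom ≫ pullback.lift M.pX (f' ≫ A.c.π.app j)
    (by rw [M.sqX.w, Category.assoc, A.c.w])) (by rw [Category.assoc, pullback.lift_fst, M.sqW.w])
  sqW := by
    refine IsPullback.of_right ?_ (pullback.lift_snd _ _ _) (IsPullback.of_hasPullback M.w _)
    rw [pullback.lift_fst, pullback.lift_fst]
    exact M.sqW
  fin := inferInstance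
  surj := inferInstance
  lfp := inferInstance
  qc := inferInstance
  qs := inferInstance

/-- Moving a point. -/
abbrev down {T : Scheme.{u}} (x : T ⟶ (M.bc φ).X) : T ⟶ M.X := x ≫ pullback.fst _ _

theorem down_eq {T : Scheme.{u}} {x₀ x₁ : T ⟶ (M.bc φ).X} (h : x₀ ≫ (M.bc φ).f = x₁ ≫ (M.bc φ).f) :
    M.down φ x₀ ≫ M.f = M.down φ x₁ ≫ M.f := by
  simp only [down, Category.assoc, pullback.condition]
  change x₀ ≫ pullback.snd _ _ = x₁ ≫ pullback.snd _ _ at h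
  rw [reassoc_of% h]

theorem down_w {T : Scheme.{u}} {x : T ⟶ (M.bc φ).X} {v : T ⟶ (M.bc φ).W} (hv : v ≫ (M.bc φ).w = x) :
    (v ≫ pullback.fst _ _) ≫ M.w = M.down φ x := by
  show _ = x ≫ pullback.fst _ _
  rw [← hv, Category.assoc, Category.assoc, pullback.condition]
  rfl

/-- The moved source maps to the source. -/
def downP : (M.bc φ).P ⟶ M.P :=
  M.pt (M.down φ (pullback.fst _ _ ≫ pullback.fst _ _)) (M.down φ (pullback.fst _ _ ≫ pullback.snd _ _))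
    (M.down_eq φ (by rw [Category.assoc, Category.assoc, pullback.condition]))
    (pullback.snd _ _ ≫ pullback.fst _ _) (M.down_w φ pullback.condition.symm)

theorem downP_pP : M.downP φ ≫ M.pP = (M.bc φ).pP ≫ A.D.map φ := by
  simp only [downP, pP, down, pullback.lift_fst_assoc, Category.assoc]
  rw [pullback.condition]
  rfl

theorem pt_downP {T : Scheme.{u}} (x₀ x₁ : T ⟶ (M.bc φ).X) (h : x₀ ≫ (M.bc φ).f = x₁ ≫ (M.bc φ).f)
    (v : T ⟶ (M.bc φ).W) (hv : v ≫ (M.bc φ).w = x₀) :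
    (M.bc φ).pt x₀ x₁ h v hv ≫ M.downP φ =
      M.pt (M.down φ x₀) (M.down φ x₁) (M.down_eq φ h) (v ≫ pullback.fst _ _) (M.down_w φ hv) := by
  rw [downP, comp_pt]
  congr 1 <;> simp [down, pt]

/-- A morphism from the moved source to the moved scheme. -/
def bcΦ (Ψ : (M.bc φ).P ⟶ M.W) (hΨ : Ψ ≫ M.w ≫ M.f = (M.bc φ).pP ≫ A.D.map φ) : (M.bc φ).P ⟶ (M.bc φ).W :=
  pullback.lift Ψ (pullback.lift (Ψ ≫ M.w) (M.bc φ).pP (by rw [Category.assoc, hΨ]))
    (by rw [pullback.lift_fst])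

theorem bcΦ_glue (Ψ : (M.bc φ).P ⟶ M.W) (hΨ : Ψ ≫ M.w ≫ M.f = (M.bc φ).pP ≫ A.D.map φ)
    (hc : ∀ ⦃T : Scheme.{u}⦄ (x₀ x₁ : T ⟶ X') (h : x₀ ≫ f' = x₁ ≫ f') (v : Desc.Lifts D.obj x₀) (hx hv),
      (M.bc φ).pt (x₀ ≫ (M.bc φ).pX) (x₁ ≫ (M.bc φ).pX) hx (v.1 ≫ (M.bc φ).pW) hv ≫ Ψ =
        (D.φ x₀ x₁ h v).1 ≫ M.pW) :
    (M.bc φ).Glue (M.bcΦ φ Ψ hΨ) where
  over' := by
    show pullback.lift Ψ _ _ ≫ pullback.snd _ _ ≫ pullback.snd _ _ = _
    rw [pullback.lift_snd_assoc, pullback.lift_snd]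
  compat T x₀ x₁ h v hx hv := by
    apply pullback.hom_ext
    · show (_ ≫ pullback.lift Ψ _ _) ≫ _ = ((D.φ x₀ x₁ h v).1 ≫ pullback.lift _ _ _) ≫ _
      rw [Category.assoc, Category.assoc, pullback.lift_fst, pullback.lift_fst]
      exact hc x₀ x₁ h v hx hv
    · show (_ ≫ pullback.lift Ψ _ _) ≫ _ = ((D.φ x₀ x₁ h v).1 ≫ pullback.lift _ _ _) ≫ _
      rw [Category.assoc, Category.assoc, pullback.lift_snd, pullback.lift_snd, reassoc_of% (D.φ x₀ x₁ h v).2]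
      apply pullback.hom_ext
      · rw [Category.assoc, pullback.lift_fst, Category.assoc, pullback.lift_fst, ← Category.assoc, hc x₀ x₁ h v hx hv,
          Category.assoc, M.sqW.w, reassoc_of% (D.φ x₀ x₁ h v).2]
      · rw [Category.assoc, pullback.lift_snd, Category.assoc, pullback.lift_snd, pullback.lift_fst_assoc,
          pullback.lift_fst_assoc, Category.assoc]
        show x₀ ≫ pullback.lift _ _ _ ≫ pullback.snd _ _ = _
        rw [pullback.lift_snd, reassoc_of% h]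

theorem pX_fst : (M.bc φ).pX ≫ pullback.fst _ _ = M.pX := pullback.lift_fst _ _ _

theorem pW_fst : (M.bc φ).pW ≫ pullback.fst _ _ = M.pW := pullback.lift_fst _ _ _

variable {Φ : M.P ⟶ M.W}

/-- The moved gluing. -/
def moveΦ (hΦ : M.Glue Φ) : (M.bc φ).P ⟶ (M.bc φ).W :=
  M.bcΦ φ (M.downP φ ≫ Φ) (by rw [Category.assoc, hΦ.over', downP_pP])

theorem moveΦ_fst (hΦ : M.Glue Φ) : M.moveΦ φ hΦ ≫ pullback.fst _ _ = M.downP φ ≫ Φ := pullback.lift_fst _ _ _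

theorem moveΦ_glue (hΦ : M.Glue Φ) : (M.bc φ).Glue (M.moveΦ φ hΦ) :=
  M.bcΦ_glue φ _ _ fun T x₀ x₁ h v hx hv => by
    rw [← Category.assoc, pt_downP]
    have e₁ : ∀ x : T ⟶ X', M.down φ (x ≫ (M.bc φ).pX) = x ≫ M.pX := fun x => by
      rw [down, Category.assoc, pX_fst]
    have hx' : (x₀ ≫ M.pX) ≫ M.f = (x₁ ≫ M.pX) ≫ M.f := by rw [← e₁, ← e₁]; exact M.down_eq φ hx
    have hv' : (v.1 ≫ M.pW) ≫ M.w = x₀ ≫ M.pX := by rw [Category.assoc, M.sqW.w, reassoc_of% v.2]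
    refine Eq.trans ?_ (hΦ.compat x₀ x₁ h v hx' hv')
    congr 2
    · exact e₁ x₀
    · exact e₁ x₁
    · rw [Category.assoc, pW_fst]

theorem moveΦ_pr₂_of (hΦ : M.Glue Φ)
    (h : M.downP φ ≫ Φ ≫ M.w = M.downP φ ≫ pullback.fst _ _ ≫ pullback.snd M.f M.f) :
    (M.bc φ).Pr₂ (M.moveΦ φ hΦ) := by
  show pullback.lift _ _ _ ≫ pullback.snd _ _ = _
  rw [pullback.lift_snd]
  apply pullback.hom_ext
  · rw [pullback.lift_fst, Category.assoc, h, downP, pullback.lift_fst_assoc, pullback.lift_snd]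
  · rw [pullback.lift_snd]
    show pullback.fst _ _ ≫ pullback.fst _ _ ≫ (M.bc φ).f = _
    rw [pullback.condition]
    simp only [Category.assoc]
    rfl

theorem moveΦ_pr₂ (hΦ : M.Glue Φ) (hp : M.Pr₂ Φ) : (M.bc φ).Pr₂ (M.moveΦ φ hΦ) :=
  M.moveΦ_pr₂_of φ hΦ (congrArg (M.downP φ ≫ ·) hp)

theorem moveΦ_self_of (hΦ : M.Glue Φ) (hp : (M.bc φ).Pr₂ (M.moveΦ φ hΦ))
    (h : ∀ ⦃T : Scheme.{u}⦄ (x : T ⟶ (M.bc φ).X) (v : T ⟶ (M.bc φ).W) (hv : v ≫ (M.bc φ).w = x),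
      M.pt (M.down φ x) (M.down φ x) rfl (v ≫ pullback.fst _ _) (M.down_w φ hv) ≫ Φ = v ≫ pullback.fst _ _) :
    (M.bc φ).Self (M.moveΦ φ hΦ) := fun T x v hv => by
  apply pullback.hom_ext
  · rw [Category.assoc, moveΦ_fst, ← Category.assoc, pt_downP]
    exact h x v hv
  · exact ((M.bc φ).pr₂_pt hp _ _ _ _ _).trans hv.symm

theorem moveΦ_self (hΦ : M.Glue Φ) (hp : M.Pr₂ Φ) (hs : M.Self Φ) : (M.bc φ).Self (M.moveΦ φ hΦ) :=
  M.moveΦ_self_of φ hΦ (M.moveΦ_pr₂ φ hΦ hp) fun T x v hv => hs _ _ _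

theorem moveΦ_comp_of (hΦ : M.Glue Φ) (hp : M.Pr₂ Φ)
    (h : ∀ ⦃T : Scheme.{u}⦄ (x₀ x₁ x₂ : T ⟶ (M.bc φ).X) (e : x₀ ≫ (M.bc φ).f = x₁ ≫ (M.bc φ).f)
      (e' : x₁ ≫ (M.bc φ).f = x₂ ≫ (M.bc φ).f) (v : T ⟶ (M.bc φ).W) (hv : v ≫ (M.bc φ).w = x₀),
      M.pt (M.down φ x₁) (M.down φ x₂) (M.down_eq φ e')
          (M.pt (M.down φ x₀) (M.down φ x₁) (M.down_eq φ e) (v ≫ pullback.fst _ _) (M.down_w φ hv) ≫ Φ)
          (M.pr₂_pt hp _ _ _ _ _) ≫ Φ =
        M.pt (M.down φ x₀) (M.down φ x₂) (M.down_eq φ (e.trans e')) (v ≫ pullback.fst _ _) (M.down_w φ hv) ≫ Φ) :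
    (M.bc φ).Comp (M.moveΦ φ hΦ) := fun T x₀ x₁ x₂ e e' v hv hv' => by
  have hp' := M.moveΦ_pr₂ φ hΦ hp
  apply pullback.hom_ext
  · simp only [Category.assoc, moveΦ_fst]
    simp only [← Category.assoc, pt_downP]
    refine Eq.trans ?_ (h x₀ x₁ x₂ e e' v hv)
    congr 2
    rw [Category.assoc, moveΦ_fst, ← Category.assoc, pt_downP]
  · exact ((M.bc φ).pr₂_pt hp' _ _ _ _ _).trans ((M.bc φ).pr₂_pt hp' _ _ _ _ _).symm

end bc

variable [IsAffine S₀]

theorem affMap (A : Sys I S₀) : ∀ (i j : I) (a : i ⟶ j), IsAffineHom (A.D.map a) := fun _ _ a => A.affine_map a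

theorem compact_W : CompactSpace M.W := by
  haveI := A.compactSpace_obj k
  exact QuasiCompact.compactSpace_of_compactSpace (M.w ≫ M.f)

theorem qs_W : QuasiSeparatedSpace M.W := by
  haveI := A.quasiSeparatedSpace_obj k
  exact quasiSeparatedSpace_of_quasiSeparated (M.w ≫ M.f)

theorem compact_P : CompactSpace M.P := by
  haveI := A.compactSpace_obj k
  exact QuasiCompact.compactSpace_of_compactSpace M.pP

theorem qs_P : QuasiSeparatedSpace M.P := by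
  haveI := A.quasiSeparatedSpace_obj k
  exact quasiSeparatedSpace_of_quasiSeparated M.pP

variable [LocallyOfFinitePresentation M.f]

theorem exists_Φ : ∃ (j : I) (φ : j ⟶ k) (Φ : (M.bc φ).P ⟶ (M.bc φ).W), (M.bc φ).Glue Φ := by
  haveI := affMap A
  haveI := M.compact_P
  haveI := M.qs_P
  obtain ⟨x₀, x₁, hx, v, hv, hx', hy, hq⟩ := M.exists_lim_point (pullback.fst M.pP (A.c.π.app k))
    (pullback.snd _ _) pullback.condition
  obtain ⟨j, φ, fj, sX, sY, hfj, hsX₁, hsX₂, hsY₁, hsY₂, hcomp⟩ :=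
    DescFP.exists_hom_descend A.hc M.pP (M.w ≫ M.f) (pullback.fst M.pP (A.c.π.app k)) (pullback.snd _ _)
      (IsPullback.of_hasPullback _ _) M.pW (D.obj.hom ≫ f') (M.sqW.paste_vert M.sqX) (D.φ x₀ x₁ hx v).1
      (by rw [reassoc_of% (D.φ x₀ x₁ hx v).2, ← hx, hy])
  let toP : (M.bc φ).P ⟶ pullback M.pP (A.D.map φ) := pullback.lift (M.downP φ) (M.bc φ).pP (M.downP_pP φ)
  let Ψ : (M.bc φ).P ⟶ M.W := toP ≫ fj ≫ pullback.fst _ _
  have hΨ : Ψ ≫ M.w ≫ M.f = (M.bc φ).pP ≫ A.D.map φ := by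
    simp only [Ψ, Category.assoc]
    rw [pullback.condition, reassoc_of% hfj, ← Category.assoc, pullback.lift_snd]
    simp only [pP, Category.assoc]
  refine ⟨j, φ, M.bcΦ φ Ψ hΨ, M.bcΦ_glue φ Ψ hΨ fun T z₀ z₁ h z hz hz' => ?_⟩
  have hzx : (z₀ ≫ M.pX) ≫ M.f = (z₁ ≫ M.pX) ≫ M.f := by
    rw [Category.assoc, Category.assoc, M.sqX.w, reassoc_of% h]
  have hzv : (z.1 ≫ M.pW) ≫ M.w = z₀ ≫ M.pX := by rw [Category.assoc, M.sqW.w, reassoc_of% z.2]
  let τ : T ⟶ pullback M.pP (A.c.π.app k) :=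
    pullback.lift (M.pt _ _ hzx (z.1 ≫ M.pW) hzv) (z₀ ≫ f') (by
      rw [pullback.lift_fst_assoc, pullback.lift_fst_assoc, Category.assoc, M.sqX.w, Category.assoc])
  have hτ : τ ≫ pullback.fst _ _ = M.pt _ _ hzx (z.1 ≫ M.pW) hzv := pullback.lift_fst _ _ _
  have hτX : (M.bc φ).pt (z₀ ≫ (M.bc φ).pX) (z₁ ≫ (M.bc φ).pX) hz (z.1 ≫ (M.bc φ).pW) hz' ≫ toP = τ ≫ sX := by
    apply pullback.hom_ext
    · rw [Category.assoc, pullback.lift_fst, pt_downP]
      refine Eq.trans ?_ (((Category.assoc _ _ _).trans (congrArg (τ ≫ ·) hsX₁)).trans hτ).symm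
      congr 1
      · rw [down, Category.assoc, pX_fst]
      · rw [down, Category.assoc, pX_fst]
      · rw [Category.assoc, pW_fst]
    · rw [Category.assoc, pullback.lift_snd, Category.assoc, hsX₂, ← Category.assoc τ, pullback.lift_snd]
      rw [pullback.lift_fst_assoc, pullback.lift_fst_assoc, Category.assoc]
      show z₀ ≫ pullback.lift _ _ _ ≫ pullback.snd _ _ = _
      rw [pullback.lift_snd, Category.assoc]
  have hqτ := hτ.symm.trans (congrArg (τ ≫ ·) hq)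
  rw [comp_pt] at hqτ
  have e₀ : τ ≫ x₀ = z₀ := M.sqX.hom_ext
    (by
      have := congrArg (fun q => q ≫ pullback.fst _ _ ≫ pullback.fst _ _) hqτ
      simp only [pullback.lift_fst_assoc, pullback.lift_fst] at this
      rw [Category.assoc]; exact this.symm)
    (by rw [Category.assoc, hy, pullback.lift_snd])
  have e₁ : τ ≫ x₁ = z₁ := M.sqX.hom_ext
    (by
      have := congrArg (fun q => q ≫ pullback.fst _ _ ≫ pullback.snd _ _) hqτ
      simp only [pullback.lift_fst_assoc, pullback.lift_snd] at this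
      rw [Category.assoc]; exact this.symm)
    (by rw [Category.assoc, ← hx, hy, pullback.lift_snd, h])
  have ev : τ ≫ v.1 = z.1 := M.sqW.hom_ext
    (by
      have := congrArg (fun q => q ≫ pullback.snd _ _) hqτ
      simp only [pullback.lift_snd] at this
      rw [Category.assoc]; exact this.symm)
    (by rw [Category.assoc, v.2, z.2, e₀])
  rw [show Ψ = toP ≫ fj ≫ pullback.fst _ _ from rfl, reassoc_of% hτX, reassoc_of% hcomp, hsY₁, ← Category.assoc]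
  congr 1
  rw [φ_congr e₀.symm e₁.symm h (by simp [hx]) z ⟨τ ≫ v.1, by rw [Category.assoc, v.2]⟩ ev.symm]
  exact (D.φ_natural τ x₀ x₁ hx _ v _ rfl).symm

theorem exists_pr₂ {Φ : M.P ⟶ M.W} (hΦ : M.Glue Φ) : ∃ (j : I) (φ : j ⟶ k), (M.bc φ).Pr₂ (M.moveΦ φ hΦ) := by
  haveI := affMap A
  haveI := M.compact_P
  obtain ⟨x₀, x₁, hx, v, hv, hx', hy, hq⟩ := M.exists_lim_point (pullback.fst M.pP (A.c.π.app k))
    (pullback.snd _ _) pullback.condition
  obtain ⟨j, φ, e⟩ := DescFP.hom_eq_eventually A.hc M.pP M.f (pullback.fst M.pP (A.c.π.app k)) (pullback.snd _ _)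
    (IsPullback.of_hasPullback _ _) (Φ ≫ M.w) (pullback.fst _ _ ≫ pullback.snd M.f M.f)
    (by rw [Category.assoc, hΦ.over']) (by simp only [pP, Category.assoc]; rw [pullback.condition])
    (by rw [hq, ← Category.assoc, hΦ.compat x₀ x₁ hx v hx' hv, Category.assoc, M.sqW.w,
      reassoc_of% (D.φ x₀ x₁ hx v).2, pullback.lift_fst_assoc, pullback.lift_snd])
  refine ⟨j, φ, M.moveΦ_pr₂_of φ hΦ ?_⟩
  have := congrArg (pullback.lift (M.downP φ) (M.bc φ).pP (M.downP_pP φ) ≫ ·) e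
  simpa only [pullback.lift_fst_assoc] using this

theorem exists_self {Φ : M.P ⟶ M.W} (hΦ : M.Glue Φ) (hp : M.Pr₂ Φ) :
    ∃ (j : I) (φ : j ⟶ k), (M.bc φ).Self (M.moveΦ φ hΦ) := by
  haveI := affMap A
  haveI := M.compact_W
  let q : M.W ⟶ M.P := M.pt M.w M.w rfl (𝟙 _) (Category.id_comp _)
  let T := pullback (M.w ≫ M.f) (A.c.π.app k)
  have sq' := M.sqW.paste_vert M.sqX
  let z : T ⟶ D.obj.left := sq'.lift (pullback.fst _ _) (pullback.snd _ _) pullback.condition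
  have hz : z ≫ M.pW = pullback.fst _ _ := sq'.lift_fst _ _ _
  obtain ⟨j, φ, e⟩ := DescFP.hom_eq_eventually A.hc (M.w ≫ M.f) (M.w ≫ M.f) (pullback.fst _ _) (pullback.snd _ _)
    (IsPullback.of_hasPullback (M.w ≫ M.f) (A.c.π.app k)) (q ≫ Φ) (𝟙 _)
    (by rw [Category.assoc, hΦ.over', pullback.lift_fst_assoc, pullback.lift_fst_assoc]) (Category.id_comp _)
    (by
      have hv : (z ≫ M.pW) ≫ M.w = (z ≫ D.obj.hom) ≫ M.pX := by rw [Category.assoc, Category.assoc, M.sqW.w]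
      rw [Category.comp_id, ← Category.assoc, comp_pt]
      have := hΦ.compat (z ≫ D.obj.hom) (z ≫ D.obj.hom) rfl ⟨z, rfl⟩ rfl hv
      rw [D.φ_self] at this
      refine Eq.trans ?_ (this.trans hz)
      congr 2
      · rw [← hz, Category.assoc, Category.assoc, M.sqW.w]
      · rw [← hz, Category.assoc, Category.assoc, M.sqW.w]
      · rw [Category.comp_id, hz])
  refine ⟨j, φ, M.moveΦ_self_of φ hΦ (M.moveΦ_pr₂ φ hΦ hp) fun T' x y hy => ?_⟩
  let σ : T' ⟶ pullback (M.w ≫ M.f) (A.D.map φ) :=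
    pullback.lift (y ≫ pullback.fst _ _) (x ≫ (M.bc φ).f) (by
      rw [← Category.assoc, M.down_w φ hy, down, Category.assoc, Category.assoc, pullback.condition]
      rfl)
  have := congrArg (σ ≫ ·) e
  simp only [σ, Category.comp_id, pullback.lift_fst_assoc, pullback.lift_fst] at this
  rw [← Category.assoc, comp_pt] at this
  refine Eq.trans ?_ this
  congr 2
  all_goals first | rw [M.down_w φ hy] | rw [Category.comp_id]

theorem exists_comp {Φ : M.P ⟶ M.W} (hΦ : M.Glue Φ) (hp : M.Pr₂ Φ) :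
    ∃ (j : I) (φ : j ⟶ k), (M.bc φ).Comp (M.moveΦ φ hΦ) := by
  haveI := affMap A
  haveI := A.compactSpace_obj k
  let Q := pullback M.pP M.f
  let c : Q ⟶ A.D.obj k := pullback.fst _ _ ≫ M.pP
  haveI : CompactSpace Q := QuasiCompact.compactSpace_of_compactSpace c
  let y₀ : Q ⟶ M.X := pullback.fst _ _ ≫ pullback.fst _ _ ≫ pullback.fst M.f M.f
  let y₁ : Q ⟶ M.X := pullback.fst _ _ ≫ pullback.fst _ _ ≫ pullback.snd M.f M.f
  let y₂ : Q ⟶ M.X := pullback.snd _ _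
  let yv : Q ⟶ M.W := pullback.fst _ _ ≫ pullback.snd _ _
  have h₀₁ : y₀ ≫ M.f = y₁ ≫ M.f := by simp only [y₀, y₁, Category.assoc]; rw [← pullback.condition (f := M.f) (g := M.f)]
  have h₁₂ : y₁ ≫ M.f = y₂ ≫ M.f := by
    refine Eq.trans ?_ (pullback.condition (f := M.pP) (g := M.f))
    simp only [y₁, pP, Category.assoc]
    rw [← pullback.condition (f := M.f) (g := M.f)]
  have hyv : yv ≫ M.w = y₀ := by simp only [yv, y₀, Category.assoc]; rw [← pullback.condition]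
  let m₁ := M.pt y₀ y₁ h₀₁ yv hyv ≫ Φ
  let fi := M.pt y₁ y₂ h₁₂ m₁ (M.pr₂_pt hp _ _ _ _ _) ≫ Φ
  let gi := M.pt y₀ y₂ (h₀₁.trans h₁₂) yv hyv ≫ Φ
  have hc : ∀ {m : Q ⟶ M.W}, m ≫ M.w = y₂ → m ≫ M.w ≫ M.f = c := fun {m} hm => by
    rw [← Category.assoc, hm, ← h₁₂, ← h₀₁]; simp [y₀, c, pP]
  let T := pullback c (A.c.π.app k)
  let u : T ⟶ Q := pullback.fst _ _
  let τ : T ⟶ A.c.pt := pullback.snd _ _
  obtain ⟨x₀, x₁, hx, v, hv, hx', hy, hq⟩ := M.exists_lim_point (u ≫ pullback.fst _ _) τ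
    (by rw [Category.assoc]; exact pullback.condition)
  let x₂ := M.sqX.lift (u ≫ y₂) τ (by
    rw [Category.assoc, ← h₁₂, ← h₀₁]
    simp only [y₀, Category.assoc]
    exact pullback.condition)
  have hx₂ : x₂ ≫ M.pX = u ≫ y₂ := M.sqX.lift_fst _ _ _
  have hx12 : x₁ ≫ f' = x₂ ≫ f' := by rw [← hx, hy, M.sqX.lift_snd]
  have eu₀ : u ≫ y₀ = x₀ ≫ M.pX := by
    have := congrArg (fun q => q ≫ pullback.fst _ _ ≫ pullback.fst _ _) hq
    simp only [pt, pullback.lift_fst_assoc, pullback.lift_fst, Category.assoc] at this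
    exact this
  have eu₁ : u ≫ y₁ = x₁ ≫ M.pX := by
    have := congrArg (fun q => q ≫ pullback.fst _ _ ≫ pullback.snd _ _) hq
    simp only [pt, pullback.lift_fst_assoc, pullback.lift_snd, Category.assoc] at this
    exact this
  have euv : u ≫ yv = v.1 ≫ M.pW := by
    have := congrArg (fun q => q ≫ pullback.snd _ _) hq
    simp only [pt, pullback.lift_snd, Category.assoc] at this
    exact this
  obtain ⟨j, φ, e⟩ := DescFP.hom_eq_eventually A.hc c (M.w ≫ M.f) (pullback.fst _ _) (pullback.snd _ _)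
    (IsPullback.of_hasPullback c (A.c.π.app k)) fi gi (hc (M.pr₂_pt hp _ _ _ _ _)) (hc (M.pr₂_pt hp _ _ _ _ _))
    (by
      have key : ∀ {z₀ z₁ : T ⟶ X'} (hz : z₀ ≫ f' = z₁ ≫ f') (z : Desc.Lifts D.obj z₀) (a b : Q ⟶ M.X) (hab)
          (m : Q ⟶ M.W) (hm), u ≫ a = z₀ ≫ M.pX → u ≫ b = z₁ ≫ M.pX → u ≫ m = z.1 ≫ M.pW →
          u ≫ M.pt a b hab m hm ≫ Φ = (D.φ z₀ z₁ hz z).1 ≫ M.pW := by
        intro z₀ z₁ hz z a b hab m hm ea eb em
        have hz' : (z₀ ≫ M.pX) ≫ M.f = (z₁ ≫ M.pX) ≫ M.f := by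
          rw [Category.assoc, Category.assoc, M.sqX.w, reassoc_of% hz]
        have hzv : (z.1 ≫ M.pW) ≫ M.w = z₀ ≫ M.pX := by rw [Category.assoc, M.sqW.w, reassoc_of% z.2]
        rw [← Category.assoc, comp_pt]
        refine Eq.trans ?_ (hΦ.compat z₀ z₁ hz z hz' hzv)
        congr 2
      rw [show u ≫ fi = _ from key hx12 (D.φ x₀ x₁ hx v) _ _ _ m₁ _ eu₁ hx₂.symm
          (key hx v _ _ _ _ _ eu₀ eu₁ euv),
        show u ≫ gi = _ from key (hx.trans hx12) v _ _ _ _ _ eu₀ hx₂.symm euv, D.φ_comp x₀ x₁ x₂ hx hx12 v])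
  refine ⟨j, φ, M.moveΦ_comp_of φ hΦ hp fun T' z₀ z₁ z₂ e₀₁ e₁₂ z hz => ?_⟩
  let qq : T' ⟶ Q := pullback.lift
    (M.pt (M.down φ z₀) (M.down φ z₁) (M.down_eq φ e₀₁) (z ≫ pullback.fst _ _) (M.down_w φ hz)) (M.down φ z₂)
    (by
      rw [pullback.lift_fst_assoc, pullback.lift_fst_assoc]
      exact (M.down_eq φ e₀₁).trans (M.down_eq φ e₁₂))
  let σ : T' ⟶ pullback c (A.D.map φ) := pullback.lift qq (z₀ ≫ (M.bc φ).f) (by
    rw [pullback.lift_fst_assoc, pullback.lift_fst_assoc, pullback.lift_fst_assoc, down, Category.assoc,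
      Category.assoc, pullback.condition]
    rfl)
  have hq₀ : qq ≫ y₀ = M.down φ z₀ := by
    rw [pullback.lift_fst_assoc, pullback.lift_fst_assoc, pullback.lift_fst]
  have hq₁ : qq ≫ y₁ = M.down φ z₁ := by
    rw [pullback.lift_fst_assoc, pullback.lift_fst_assoc, pullback.lift_snd]
  have hq₂ : qq ≫ y₂ = M.down φ z₂ := pullback.lift_snd _ _ _
  have hqv : qq ≫ yv = z ≫ pullback.fst _ _ := by rw [pullback.lift_fst_assoc, pullback.lift_snd]
  have := congrArg (σ ≫ ·) e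
  simp only [σ, fi, gi, m₁, pullback.lift_fst_assoc] at this
  simp only [← Category.assoc, comp_pt] at this
  refine Eq.trans ?_ (this.trans ?_)
  · congr 2
    · exact hq₁.symm
    · exact hq₂.symm
    · congr 2
      · exact hq₀.symm
      · exact hq₁.symm
      · exact hqv.symm
  · congr 2

theorem exists_etale [Etale D.obj.hom] : ∃ (j : I) (φ : j ⟶ k), Etale (M.bc φ).w := by
  haveI := affMap A
  haveI := A.compactSpace_obj k
  haveI : CompactSpace M.X := QuasiCompact.compactSpace_of_compactSpace M.f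
  haveI := M.compact_W
  have hl : AtLim (pb (restart A k) M.f) M.w @Etale := by
    refine MorphismProperty.of_isPullback (P := @Etale) (f := M.sqX.isoPullback.inv) (g := D.obj.hom)
      (f' := M.sqW.lift (pullback.fst _ _) (pullback.snd _ _ ≫ M.sqX.isoPullback.inv) ?_) ?_ inferInstance
    · rw [Category.assoc, M.sqX.isoPullback_inv_fst]; exact pullback.condition
    · refine IsPullback.of_right ?_ (M.sqW.lift_snd _ _ _) M.sqW
      rw [M.sqW.lift_fst, M.sqX.isoPullback_inv_fst]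
      exact IsPullback.of_hasPullback _ _
  obtain ⟨a, ha⟩ := exists_at_formallyUnramified (pb (restart A k) M.f) M.w
    (show FormallyUnramified _ from by
      haveI : Etale (pullback.snd M.w (pb (restart A k) M.f).s) := hl
      infer_instance)
  obtain ⟨b, hb⟩ := exists_at_flat (pb (restart A k) M.f) M.w (show Flat _ from by
    haveI : Etale (pullback.snd M.w (pb (restart A k) M.f).s) := hl
    infer_instance)
  let c := IsCofiltered.min a b
  have h1 : FormallyUnramified (pullback.snd M.w (pullback.fst M.f (A.D.map c.hom))) :=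
    at_of_hom (pb (restart A k) M.f) M.w (IsCofiltered.minToLeft a b) ha
  have h2 : Flat (pullback.snd M.w (pullback.fst M.f (A.D.map c.hom))) :=
    at_of_hom (pb (restart A k) M.f) M.w (IsCofiltered.minToRight a b) hb
  exact ⟨c.left, c.hom, @Etale.of_formallyUnramified_of_flat _ _ (M.bc c.hom).w h2 h1 inferInstance⟩

theorem exists_sep [IsSeparated D.obj.hom] : ∃ (j : I) (φ : j ⟶ k), IsSeparated (M.bc φ).w := by
  haveI := affMap A
  haveI := A.compactSpace_obj k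
  haveI : CompactSpace M.X := QuasiCompact.compactSpace_of_compactSpace M.f
  have hl : AtLim (pb (restart A k) M.f) M.w @IsSeparated := by
    refine MorphismProperty.of_isPullback (P := @IsSeparated) (f := M.sqX.isoPullback.inv) (g := D.obj.hom)
      (f' := M.sqW.lift (pullback.fst _ _) (pullback.snd _ _ ≫ M.sqX.isoPullback.inv) ?_) ?_ inferInstance
    · rw [Category.assoc, M.sqX.isoPullback_inv_fst]; exact pullback.condition
    · refine IsPullback.of_right ?_ (M.sqW.lift_snd _ _ _) M.sqW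
      rw [M.sqW.lift_fst, M.sqX.isoPullback_inv_fst]
      exact IsPullback.of_hasPullback _ _
  obtain ⟨a, ha⟩ := exists_at_isSeparated (pb (restart A k) M.f) M.w hl
  exact ⟨a.left, a.hom, ha⟩

end Mdl

theorem effEt_limit [IsAffine S₀] (hN : ∀ i, IsLocallyNoetherian (A.D.obj i)) {X₀ : Scheme.{u}} (f : X₀ ⟶ S₀)
    [IsFinite f] [Surjective f] [LocallyOfFinitePresentation f] {p : X' ⟶ X₀} (sq : IsPullback p f' f A.s) :
    EffEt f' := fun D _ _ _ => by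
  haveI := Mdl.affMap A
  haveI : IsFinite f' := MorphismProperty.of_isPullback (P := @IsFinite) sq inferInstance
  haveI : LocallyOfFinitePresentation f' :=
    MorphismProperty.of_isPullback (P := @LocallyOfFinitePresentation) sq inferInstance
  haveI : ∀ i, CompactSpace (A.D.obj i) := A.compactSpace_obj
  haveI : ∀ i, QuasiSeparatedSpace (A.D.obj i) := A.quasiSeparatedSpace_obj
  obtain ⟨j, ⟨Z⟩⟩ := DescFP.exists_model A.hc (D.obj.hom ≫ f')
  haveI := Z.lfp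
  haveI := Z.qc
  haveI := Z.qs
  haveI := A.compactSpace_obj j
  haveI := A.quasiSeparatedSpace_obj j
  haveI : CompactSpace Z.Z := QuasiCompact.compactSpace_of_compactSpace Z.p
  haveI : QuasiSeparatedSpace Z.Z := quasiSeparatedSpace_of_quasiSeparated Z.p
  let fj := pullback.snd f (A.t j)
  let qY : X' ⟶ pullback f (A.t j) := pullback.lift p (f' ≫ A.c.π.app j) (by rw [sq.w, Category.assoc, A.hs])
  have hY : IsPullback qY f' fj (A.c.π.app j) := by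
    refine IsPullback.of_right ?_ (pullback.lift_snd _ _ _) (IsPullback.of_hasPullback f (A.t j))
    rw [pullback.lift_fst, A.hs]
    exact sq
  obtain ⟨k, φ, wk, sX, sY, hwk, hsX₁, hsX₂, hsY₁, hsY₂, hcomp⟩ :=
    DescFP.exists_hom_descend A.hc Z.p fj Z.g (D.obj.hom ≫ f') Z.sq qY f' hY D.obj.hom rfl
  haveI : LocallyOfFinitePresentation wk := by
    haveI : LocallyOfFinitePresentation (wk ≫ pullback.snd fj (A.D.map φ)) := hwk ▸ inferInstance
    exact AlgSpLib.lfp_of_comp_lft wk (pullback.snd fj (A.D.map φ))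
  haveI : QuasiCompact wk := by
    haveI : QuasiCompact (wk ≫ pullback.snd fj (A.D.map φ)) := hwk ▸ inferInstance
    exact QuasiCompact.of_comp wk (pullback.snd fj (A.D.map φ))
  haveI : QuasiSeparated wk := by
    haveI : QuasiSeparated (wk ≫ pullback.snd fj (A.D.map φ)) := hwk ▸ inferInstance
    exact QuasiSeparated.of_comp wk (pullback.snd fj (A.D.map φ))
  have sqY : IsPullback sY f' (pullback.snd fj (A.D.map φ)) (A.c.π.app k) := by
    refine IsPullback.of_right ?_ hsY₂ (IsPullback.of_hasPullback fj (A.D.map φ))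
    rw [hsY₁, A.c.w]
    exact hY
  have sqX : IsPullback sX (D.obj.hom ≫ f') (pullback.snd Z.p (A.D.map φ)) (A.c.π.app k) := by
    refine IsPullback.of_right ?_ hsX₂ (IsPullback.of_hasPullback Z.p (A.D.map φ))
    rw [hsX₁, A.c.w]
    exact Z.sq
  rw [← hwk] at sqX
  let M : Mdl A D k :=
    { X := pullback fj (A.D.map φ), f := pullback.snd _ _, pX := sY, sqX := sqY
      W := pullback Z.p (A.D.map φ), w := wk, pW := sX, sqW := IsPullback.of_bot sqX hcomp sqY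
      fin := inferInstance, surj := inferInstance, lfp := inferInstance, qc := inferInstance, qs := inferInstance }
  haveI hlf : ∀ {l : I} (M : Mdl A D l), LocallyOfFinitePresentation M.f := fun {l} M => by
    haveI := hN l
    haveI : LocallyOfFiniteType M.f := inferInstance
    exact LocallyOfFinitePresentation.iff_locallyOfFiniteType.mpr inferInstance
  obtain ⟨k₁, φ₁, Φ₁, hΦ₁⟩ := M.exists_Φ
  let M₁ := M.bc φ₁
  obtain ⟨k₂, φ₂, hp₂⟩ := M₁.exists_pr₂ hΦ₁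
  let M₂ := M₁.bc φ₂
  have hΦ₂ := M₁.moveΦ_glue φ₂ hΦ₁
  obtain ⟨k₃, φ₃, hs₃⟩ := M₂.exists_self hΦ₂ hp₂
  let M₃ := M₂.bc φ₃
  have hΦ₃ := M₂.moveΦ_glue φ₃ hΦ₂
  have hp₃ := M₂.moveΦ_pr₂ φ₃ hΦ₂ hp₂
  obtain ⟨k₄, φ₄, he₄⟩ := M₃.exists_etale
  let M₄ := M₃.bc φ₄
  have hΦ₄ := M₃.moveΦ_glue φ₄ hΦ₃
  have hp₄ := M₃.moveΦ_pr₂ φ₄ hΦ₃ hp₃
  have hs₄ := M₃.moveΦ_self φ₄ hΦ₃ hp₃ hs₃
  obtain ⟨k₅, φ₅, he₅⟩ := M₄.exists_sep
  let M₅ := M₄.bc φ₅
  have hΦ₅ := M₄.moveΦ_glue φ₅ hΦ₄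
  have hp₅ := M₄.moveΦ_pr₂ φ₅ hΦ₄ hp₄
  have hs₅ := M₄.moveΦ_self φ₅ hΦ₄ hp₄ hs₄
  obtain ⟨k₆, φ₆, hc₆⟩ := M₅.exists_comp hΦ₅ hp₅
  let N := M₅.bc φ₆
  have hΦ := M₅.moveΦ_glue φ₆ hΦ₅
  have hp := M₅.moveΦ_pr₂ φ₆ hΦ₅ hp₅
  have hs := M₅.moveΦ_self φ₆ hΦ₅ hp₅ hs₅
  haveI : Etale M₄.w := he₄
  haveI : IsSeparated M₅.w := he₅
  haveI : Etale M₅.w := inferInstanceAs (Etale (pullback.snd M₄.w _))
  haveI : Etale N.w := inferInstanceAs (Etale (pullback.snd M₅.w _))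
  haveI : IsSeparated N.w := inferInstanceAs (IsSeparated (pullback.snd M₅.w _))
  set Φ := M₅.moveΦ φ₆ hΦ₅
  let D₀ : Desc.SchDD N.f :=
    { obj := Over.mk N.w
      φ := fun T x₀ x₁ h =>
        { toFun := fun v => ⟨N.pt x₀ x₁ h v.1 v.2 ≫ Φ, N.pr₂_pt hp _ _ _ _ _⟩
          invFun := fun v => ⟨N.pt x₁ x₀ h.symm v.1 v.2 ≫ Φ, N.pr₂_pt hp _ _ _ _ _⟩
          left_inv := fun v => Subtype.ext ((hc₆ x₀ x₁ x₀ h h.symm v.1 v.2 _).trans (hs x₀ v.1 v.2))
          right_inv := fun v => Subtype.ext ((hc₆ x₁ x₀ x₁ h.symm h v.1 v.2 _).trans (hs x₁ v.1 v.2)) }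
      φ_natural := fun T T' g x₀ x₁ h h' v v' hv' => by
        show N.pt (g ≫ x₀) (g ≫ x₁) h' v'.1 v'.2 ≫ Φ = g ≫ N.pt x₀ x₁ h v.1 v.2 ≫ Φ
        rw [← Category.assoc g, Mdl.comp_pt]
        congr 2
      φ_self := fun T x v => Subtype.ext (hs x v.1 v.2)
      φ_comp := fun T x₀ x₁ x₂ h₀₁ h₁₂ v => Subtype.ext (hc₆ x₀ x₁ x₂ h₀₁ h₁₂ v.1 v.2 _) }
  haveI : IsLocallyNoetherian (A.D.obj k₆) := hN k₆
  haveI : Etale D₀.obj.hom := inferInstanceAs (Etale N.w)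
  haveI : IsSeparated D₀.obj.hom := inferInstanceAs (IsSeparated N.w)
  haveI : QuasiCompact D₀.obj.hom := inferInstanceAs (QuasiCompact N.w)
  obtain ⟨U, hU₁, hU₂, hU₃, ⟨e⟩⟩ := effEt_of_finite N.f D₀ inferInstance inferInstance inferInstance
  let s := A.c.π.app k₆
  let v' := pullback.snd U.hom s
  let β : pullback f' v' ⟶ pullback N.f U.hom :=
    pullback.lift (pullback.fst _ _ ≫ N.pX) (pullback.snd _ _ ≫ pullback.fst U.hom s) (by
      rw [Category.assoc, N.sqX.w, Category.assoc, pullback.condition (f := U.hom), ← Category.assoc,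
        ← Category.assoc, pullback.condition])
  have sqβ : IsPullback β (pullback.fst f' v') (pullback.fst N.f U.hom) N.pX := by
    have h1 : IsPullback (pullback.snd f' v' ≫ pullback.fst U.hom s) (pullback.fst f' v') U.hom (f' ≫ s) :=
      (IsPullback.of_hasPullback f' v').flip.paste_horiz (IsPullback.of_hasPullback U.hom s)
    rw [← N.sqX.w] at h1
    refine IsPullback.of_right ?_ (pullback.lift_fst _ _ _) (IsPullback.of_hasPullback N.f U.hom).flip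
    rw [pullback.lift_snd]
    exact h1
  have hew : e.hom.hom.left ≫ N.w = pullback.fst N.f U.hom := Over.w e.hom.hom
  haveI : IsIso e.hom.hom.left := by
    refine ⟨e.inv.hom.left, ?_, ?_⟩
    · rw [← Over.comp_left, ← Desc.SchDD.comp_hom, e.hom_inv_id]; rfl
    · rw [← Over.comp_left, ← Desc.SchDD.comp_hom, e.inv_hom_id]; rfl
  have sqE : IsPullback (β ≫ e.hom.hom.left) (pullback.fst f' v') N.w N.pX :=
    sqβ.of_iso (Iso.refl _) (asIso e.hom.hom.left) (Iso.refl _) (Iso.refl _) (by simp) (by simp) (by simp [hew]) (by simp)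
  let α := sqE.isoIsPullback _ _ N.sqW
  have hα₂ : α.hom ≫ D.obj.hom = pullback.fst f' v' := IsPullback.isoIsPullback_hom_snd _ _ _ _
  have hα₁ : α.hom ≫ N.pW = β ≫ e.hom.hom.left := IsPullback.isoIsPullback_hom_fst _ _ _ _
  refine ⟨Over.mk v', inferInstanceAs (QuasiCompact (pullback.snd U.hom s)),
    inferInstanceAs (IsSeparated (pullback.snd U.hom s)), inferInstanceAs (Etale (pullback.snd U.hom s)),
    ⟨schDDIso (Over.isoMk α hα₂) fun T x₀ x₁ h v w hw => ?_⟩⟩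
  apply N.sqW.hom_ext
  · have hvx : v.1 ≫ pullback.fst f' v' = x₀ := v.2
    have hx : (x₀ ≫ N.pX) ≫ N.f = (x₁ ≫ N.pX) ≫ N.f := by
      rw [Category.assoc, Category.assoc, N.sqX.w, reassoc_of% h]
    have hwv : (w.1 ≫ N.pW) ≫ N.w = x₀ ≫ N.pX := by rw [Category.assoc, N.sqW.w, reassoc_of% w.2]
    rw [← hΦ.compat x₀ x₁ h w hx hwv]
    have hb : (v.1 ≫ β) ≫ pullback.fst N.f U.hom = x₀ ≫ N.pX := by
      rw [Category.assoc, pullback.lift_fst, ← Category.assoc, hvx]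
    have hwv' : w.1 ≫ N.pW = (v.1 ≫ β) ≫ e.hom.hom.left := by
      rw [hw, Category.assoc, Category.assoc]
      exact congrArg (v.1 ≫ ·) hα₁
    have hc := e.hom.comm (x₀ ≫ N.pX) (x₁ ≫ N.pX) hx ⟨v.1 ≫ β, hb⟩ ⟨w.1 ≫ N.pW, hwv⟩ hwv'
    refine hc.trans ?_
    refine Eq.trans ?_ ((Category.assoc _ _ _).trans (congrArg (_ ≫ ·) hα₁)).symm
    rw [← Category.assoc]
    congr 1
    apply pullback.hom_ext
    · refine ((Desc.canMap N.f U (x₀ ≫ N.pX) (x₁ ≫ N.pX) hx ⟨v.1 ≫ β, hb⟩).2).trans ?_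
      exact ((Category.assoc _ _ _).trans ((congrArg (_ ≫ ·) (pullback.lift_fst _ _ _)).trans
        ((Category.assoc _ _ _).symm.trans (congrArg (· ≫ N.pX) (Desc.canMap f' (Over.mk v') x₀ x₁ h v).2)))).symm
    · refine (pullback.lift_snd _ _ _).trans ?_
      show (v.1 ≫ β) ≫ pullback.snd N.f U.hom =
        ((Desc.canMap f' (Over.mk v') x₀ x₁ h v).1 ≫ β) ≫ pullback.snd N.f U.hom
      simp [β, Desc.canMap, pullback.lift_snd, pullback.lift_snd_assoc]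
  · exact (D.φ x₀ x₁ h w).2.trans ((Category.assoc _ _ _).trans ((congrArg (_ ≫ ·) hα₂).trans
      (Desc.canMap f' (Over.mk v') x₀ x₁ h v).2)).symm

/-- Finite surjections with noetherian affine target keep effective descent for étale schemes after affine base change. -/
theorem effEt_baseChange {X Y Y₁ X₁ : Scheme.{u}} (f : X ⟶ Y) [IsAffine Y] [IsLocallyNoetherian Y] [IsFinite f]
    [Surjective f] [IsAffine Y₁] (t : Y₁ ⟶ Y) {p : X₁ ⟶ X} {f₁ : X₁ ⟶ Y₁} (sq : IsPullback p f₁ f t) :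
    EffEt f₁ := by
  let φ : Γ(Y, ⊤) ⟶ Γ(Y₁, ⊤) := t.appTop
  haveI : IsNoetherianRing Γ(Y, ⊤) := IsLocallyNoetherian.component_noetherian ⟨⊤, isAffineOpen_top Y⟩
  let A := ConsLib.homSys φ Y.isoSpec
  let ε : Y₁ ≅ A.c.pt := Y₁.isoSpec ≪≫ (ConsLib.homSysIso φ Y.isoSpec).symm
  have hε : ε.hom ≫ A.s = t := by
    rw [Iso.trans_hom, Category.assoc, Iso.symm_hom, ConsLib.homSys_s, ← Category.assoc,
      Iso.comp_inv_eq, Scheme.isoSpec_hom_naturality]
  have hN : ∀ i, IsLocallyNoetherian (A.D.obj i) := fun i => by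
    haveI := ConsLib.homSys_lft φ Y.isoSpec i
    exact LocallyOfFiniteType.isLocallyNoetherian (A.t i)
  haveI : LocallyOfFinitePresentation f := LocallyOfFinitePresentation.iff_locallyOfFiniteType.mpr inferInstance
  have sq' : IsPullback p (f₁ ≫ ε.hom) f A.s :=
    sq.of_iso (Iso.refl _) (Iso.refl _) ε (Iso.refl _) (by simp) (by simp) (by simp) (by simp [hε])
  intro D h₁ h₂ h₃
  -- transport along the isomorphism of the base
  let D' : Desc.SchDD (f₁ ≫ ε.hom) :=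
    { obj := D.obj
      φ := fun T x₀ x₁ h => D.φ x₀ x₁ (by rw [← cancel_mono ε.hom]; simpa using h)
      φ_natural := fun T T' g x₀ x₁ h h' v v' hv' => D.φ_natural g x₀ x₁ _ _ v v' hv'
      φ_self := fun T x v => D.φ_self x v
      φ_comp := fun T x₀ x₁ x₂ h₀₁ h₁₂ v => D.φ_comp x₀ x₁ x₂ _ _ v }
  haveI : IsAffine Y₁ := inferInstance
  obtain ⟨U, hU₁, hU₂, hU₃, ⟨e⟩⟩ := effEt_limit (A := A) hN f sq' D' h₁ h₂ h₃
  let U₁ : Over Y₁ := Over.mk (U.hom ≫ ε.inv)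
  let γ : pullback f₁ U₁.hom ≅ pullback (f₁ ≫ ε.hom) U.hom :=
    { hom := pullback.lift (pullback.fst _ _) (pullback.snd _ _) (by
        rw [← Category.assoc, pullback.condition (f := f₁) (g := U₁.hom)]; simp [U₁])
      inv := pullback.lift (pullback.fst _ _) (pullback.snd _ _) (by
        rw [← cancel_mono ε.hom, Category.assoc, pullback.condition (f := f₁ ≫ ε.hom)]; simp [U₁]) }
  let eo : ((Desc.toDD (f₁ ≫ ε.hom)).obj U).obj ≅ D.obj :=
    { hom := e.hom.hom, inv := e.inv.hom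
      hom_inv_id := congrArg Desc.SchDD.Hom.hom e.hom_inv_id
      inv_hom_id := congrArg Desc.SchDD.Hom.hom e.inv_hom_id }
  refine ⟨U₁, inferInstanceAs (QuasiCompact (U.hom ≫ ε.inv)), inferInstanceAs (IsSeparated (U.hom ≫ ε.inv)),
    inferInstanceAs (Etale (U.hom ≫ ε.inv)),
    ⟨schDDIso ((Over.isoMk γ (pullback.lift_fst _ _ _) :
      ((Desc.toDD f₁).obj U₁).obj ≅ ((Desc.toDD (f₁ ≫ ε.hom)).obj U).obj) ≪≫ eo) fun T x₀ x₁ h v w hw => ?_⟩⟩
  have hv : (v.1 ≫ γ.hom) ≫ pullback.fst (f₁ ≫ ε.hom) U.hom = x₀ := by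
    rw [Category.assoc, pullback.lift_fst]; exact v.2
  have h' : x₀ ≫ f₁ ≫ ε.hom = x₁ ≫ f₁ ≫ ε.hom := by rw [reassoc_of% h]
  refine (e.hom.comm x₀ x₁ h' ⟨v.1 ≫ γ.hom, hv⟩ w (hw.trans (Category.assoc _ _ _).symm)).trans ?_
  refine Eq.trans ?_ (Category.assoc _ _ _)
  congr 1
  apply pullback.hom_ext
  · refine ((Desc.canMap (f₁ ≫ ε.hom) U x₀ x₁ h' ⟨v.1 ≫ γ.hom, hv⟩).2).trans ?_
    exact ((Category.assoc _ _ _).trans ((congrArg (_ ≫ ·) (pullback.lift_fst _ _ _)).trans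
      (Desc.canMap f₁ U₁ x₀ x₁ h v).2)).symm
  · refine (pullback.lift_snd _ _ _).trans ?_
    show (v.1 ≫ γ.hom) ≫ pullback.snd (f₁ ≫ ε.hom) U.hom =
      ((Desc.canMap f₁ U₁ x₀ x₁ h v).1 ≫ γ.hom) ≫ pullback.snd (f₁ ≫ ε.hom) U.hom
    simp [γ, U₁, Desc.canMap, pullback.lift_snd, pullback.lift_snd_assoc]

end ConstQuotLib
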