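import Groth.Agent.QuotStLib.Coarse
import Groth.Agent.FibLib.Fp

/-!
# Base change of the coarse moduli map of a quotient stack
-/

set_option autoImplicit false
set_option linter.all false
set_option backward.isDefEq.respectTransparency false
set_option backward.isDefEq.respectTransparency.types false

noncomputable section

universe u

open CategoryTheory CategoryTheory.Limits MonoidalCategory CartesianMonoidalCategory AlgebraicGeometry
open Opposite AlgSp FibCat FibLib AlgSpLib AlgStLib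

namespace ConstQuotLib

section Elt

variable {C : Type*} [Category C] {P : Cᵒᵖ ⥤ Type _}

/-- Vertical morphisms of sections are equalities of sections. -/
theorem sec_eq_of_vert {a b : Stk.EltObj P} {R : C} (e : a ⟶ b) [(Stk.ofPsh P).p.IsHomLift (𝟙 R) e]
    (ha : a.base = R) (hb : b.base = R) :
    P.map (eqToHom ha.symm).op a.sec = P.map (eqToHom hb.symm).op b.sec := by
  have h : e.hom = eqToHom ha ≫ eqToHom hb.symm := by simpa using IsHomLift.fac' (Stk.ofPsh P).p (𝟙 R) e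
  rw [← e.map_sec, h, ← Functor.map_comp_apply]
  congr 2
  simp

/-- The morphisms of sections over a given morphism agree. -/
theorem elt_hom_unique {a b : Stk.EltObj P} {R T : C} (φ : R ⟶ T) (e e' : a ⟶ b)
    (h : (Stk.ofPsh P).p.IsHomLift φ e) (h' : (Stk.ofPsh P).p.IsHomLift φ e') : e = e' :=
  Stk.EltObj.hom_ext ((@IsHomLift.fac' _ _ _ _ (Stk.ofPsh P).p _ _ _ _ φ e h).trans
    (@IsHomLift.fac' _ _ _ _ (Stk.ofPsh P).p _ _ _ _ φ e' h').symm)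

/-- Equalities of sections are vertical. -/
theorem isHomLift_eqToHom {a b : Stk.EltObj P} (e : a = b) :
    (Stk.ofPsh P).p.IsHomLift (𝟙 a.base) (eqToHom e) := by
  subst e
  exact IsHomLift.id rfl

end Elt

variable {S : Scheme.{u}} {G X Y Y' X' : Over S} [GrpObj G] {aX : AlgGrp.Action G X}
  (π : AlgSt.QuotSt Scheme.fppfPrecoverage G aX ⥤ᵇ AlgSt.ofSch Y) {f : X ⟶ Y} (g : Y' ⟶ Y)
  {pX : X' ⟶ X} {p' : X' ⟶ Y'}

set_option quotPrecheck false in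
local notation "Fp" => fp (AlgSt.ofSpMap ((yon S).map g)) π

variable {π g}

/-- The compatibility in a morphism of the fibre product is automatic. -/
theorem fp_w {x y : (Fp).obj} {R T : Over S} (φ : R ⟶ T) (a : x.obj.fst ⟶ y.obj.fst)
    (b : x.obj.snd ⟶ y.obj.snd) [(AlgSt.ofSch Y').p.IsHomLift φ a]
    [(AlgSt.QuotSt Scheme.fppfPrecoverage G aX).p.IsHomLift φ b] :
    (AlgSt.ofSpMap ((yon S).map g)).map a ≫ y.obj.iso.hom = x.obj.iso.hom ≫ π.map b := by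
  have hx : (AlgSt.ofSch Y).p.IsHomLift (𝟙 R) x.obj.iso.hom :=
    IsHomLift.domain_eq (AlgSt.ofSch Y').p φ a ▸ x.property
  have hy : (AlgSt.ofSch Y).p.IsHomLift (𝟙 T) y.obj.iso.hom :=
    IsHomLift.codomain_eq (AlgSt.ofSch Y').p φ a ▸ y.property
  have ha := (AlgSt.ofSpMap ((yon S).map g)).preserves_isHomLift φ a
  have hb := π.preserves_isHomLift φ b
  exact elt_hom_unique φ _ _ inferInstance inferInstance

variable (hsec : ∀ ⦃T : Over S⦄ (x : T ⟶ X),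
  secOf π (QuotStLib.triv Scheme.fppfPrecoverage aX x) = (⟨x ≫ f⟩ : ((yon S).obj Y).obj.obj (op T)))
  (sq : pX ≫ f = p' ≫ g)

include hsec sq in
theorem exists_ofPoint_iso {T : Over S} (x : T ⟶ X') :
    (AlgSt.ofSpMap ((yon S).map g)).obj (⟨T, ⟨x ≫ p'⟩⟩ : (AlgSt.ofSch Y').obj) =
      π.obj (QuotStLib.triv Scheme.fppfPrecoverage aX (x ≫ pX)) := by
  rw [obj_eq π, hsec, Category.assoc, sq]
  show (⟨T, ⟨(x ≫ p') ≫ g⟩⟩ : Stk.EltObj ((yon S).obj Y).obj) = _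
  rw [Category.assoc]
  rfl

/-- The object of a point of the base change of the scheme. -/
def ofPoint {T : Over S} (x : T ⟶ X') : (Fp).obj :=
  fpObj (F := AlgSt.ofSpMap ((yon S).map g)) (G := π) (⟨T, ⟨x ≫ p'⟩⟩ : (AlgSt.ofSch Y').obj) (QuotStLib.triv Scheme.fppfPrecoverage aX (x ≫ pX))
    (eqToIso (exists_ofPoint_iso hsec sq x)) (isHomLift_eqToHom (exists_ofPoint_iso hsec sq x))

include hsec in
/-- The relation between the components of an object. -/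
theorem rel_of_obj (A : AlgSt.QuotObj Scheme.fppfPrecoverage G aX) (y : A.base ⟶ Y')
    (e : (AlgSt.ofSpMap ((yon S).map g)).obj (⟨A.base, ⟨y⟩⟩ : (AlgSt.ofSch Y').obj) ⟶ π.obj A)
    [(AlgSt.ofSch Y).p.IsHomLift (𝟙 A.base) e] :
    secOf π A = (⟨y ≫ g⟩ : ((yon S).obj Y).obj.obj (op A.base)) ∧ (A.π ≫ y) ≫ g = A.φ ≫ f := by
  have h1 := @sec_eq_of_vert _ _ _ _ _ A.base e ‹_› rfl (π.w_obj A)
  have h2 : (⟨y ≫ g⟩ : ((yon S).obj Y).obj.obj (op A.base)) = secOf π A := by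
    refine Eq.trans ?_ h1
    erw [Functor.map_id_apply]
    rfl
  refine ⟨h2.symm, ?_⟩
  let h : QuotStLib.triv Scheme.fppfPrecoverage aX A.φ ⟶ A :=
    QuotStLib.homOfSection A (𝟙 A.P) A.φ (Category.id_comp _) A.π (Category.id_comp _)
  have h3 := secOf_naturality π h
  rw [hsec, ← h2] at h3
  exact (Category.assoc _ _ _).trans (congrArg ULift.down h3)

variable {N : Sp S}

/-- Morphisms between objects of points. -/
def ofPointHom {T T' : Over S} (σ : T ⟶ T') (x : T ⟶ X') (x' : T' ⟶ X') (hp : σ ≫ x' ≫ p' = x ≫ p')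
    (h : QuotStLib.triv Scheme.fppfPrecoverage aX (x ≫ pX) ⟶ QuotStLib.triv Scheme.fppfPrecoverage aX (x' ≫ pX))
    (hb : h.base = σ) : ofPoint hsec sq x ⟶ ofPoint hsec sq x' :=
  fpHom (⟨σ, congrArg ULift.up hp⟩ :
      (⟨T, ⟨x ≫ p'⟩⟩ : (AlgSt.ofSch Y').obj) ⟶ ⟨T', ⟨x' ≫ p'⟩⟩) h (by
    haveI : (AlgSt.ofSch Y').p.IsHomLift σ (⟨σ, congrArg ULift.up hp⟩ :
        (⟨T, ⟨x ≫ p'⟩⟩ : (AlgSt.ofSch Y').obj) ⟶ ⟨T', ⟨x' ≫ p'⟩⟩) :=
      IsHomLift.of_fac' _ _ _ rfl rfl (by simp)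
    haveI : (AlgSt.QuotSt Scheme.fppfPrecoverage G aX).p.IsHomLift σ h :=
      hb ▸ IsHomLift.map (AlgSt.QuotSt Scheme.fppfPrecoverage G aX).p h
    exact fp_w (x := ofPoint hsec sq x) (y := ofPoint hsec sq x') σ _ h)

/-- The map on the scheme of a functor on the base change. -/
def psiOf (φ : Fp ⥤ᵇ AlgSt.ofSp N) : (yon S).obj X' ⟶ N :=
  yEq.symm (secOf φ (ofPoint hsec sq (𝟙 X')) : N.obj.obj (op X'))

include hsec sq in
theorem secOf_ofPoint (φ : Fp ⥤ᵇ AlgSt.ofSp N) {T : Over S} (x : T ⟶ X') :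
    secOf φ (ofPoint hsec sq x) = yEq ((yon S).map x ≫ psiOf hsec sq φ) := by
  obtain ⟨h, hb, -⟩ := (QuotStLib.hom_iff (K := Scheme.fppfPrecoverage) (aX := aX) x (x ≫ pX) (𝟙 X' ≫ pX)).2 _
    (by rw [Category.id_comp]; exact QuotStLib.act_one aX _)
  rw [yEq_map, psiOf, Equiv.apply_symm_apply]
  exact (secOf_naturality φ (ofPointHom hsec sq x x (𝟙 X') (by rw [Category.id_comp]) h hb)).symm

include hsec sq in
theorem psiOf_invariant (φ : Fp ⥤ᵇ AlgSt.ofSp N) (τ : X' ⟶ X') (γ : X' ⟶ G) (h₁ : lift γ pX ≫ aX.act = τ ≫ pX) (h₂ : τ ≫ p' = p') :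
    (yon S).map τ ≫ psiOf hsec sq φ = psiOf hsec sq φ := by
  obtain ⟨h, hb, -⟩ := (QuotStLib.hom_iff (K := Scheme.fppfPrecoverage) (aX := aX) (𝟙 X') (τ ≫ pX) (𝟙 X' ≫ pX)).2 γ
    (by rw [Category.id_comp, Category.id_comp, h₁])
  have e := secOf_naturality φ (ofPointHom hsec sq (𝟙 X') τ (𝟙 X') (by simp [h₂]) h hb)
  refine yEq.injective ?_
  rw [← secOf_ofPoint]
  refine e.symm.trans ?_
  rw [psiOf, Equiv.apply_symm_apply]
  show N.obj.map (𝟙 (op X')) _ = _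
  erw [Functor.map_id_apply]

include hsec in
/-- The criterion for the base change to be a categorical moduli space. -/
theorem isCatModuli [Flat G.hom] [LocallyOfFinitePresentation G.hom] (hp : IsPullback pX p' f g)
    (hcat : ∀ (N : Sp S), IsAlgSpace N → ∀ ψ : (yon S).obj X' ⟶ N,
      (∀ (τ : X' ⟶ X') (γ : X' ⟶ G), lift γ pX ≫ aX.act = τ ≫ pX → τ ≫ p' = p' → (yon S).map τ ≫ ψ = ψ) →
      ∃! χ : (yon S).obj Y' ⟶ N, (yon S).map p' ≫ χ = ψ) :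
    AlgSt.IsCatModuli (FibCat.fpFst (AlgSt.ofSpMap ((yon S).map g)) π) := by
  refine ⟨IsAlgSpace.yon_obj Y', fun N hN φ => ?_⟩
  have sq := hp.w
  obtain ⟨χ, hχ, hu⟩ := hcat N hN (psiOf hsec sq φ) (psiOf_invariant hsec sq φ)
  let C : ((yon S).obj Y' ⟶ N) → (Fp ⥤ᵇ AlgSt.ofSp N) := fun χ =>
    BasedFunctor.comp (FibCat.fpFst (AlgSt.ofSpMap ((yon S).map g)) π) (AlgSt.ofSpMap χ)
  have hC : ∀ χ w, secOf (C χ) w = χ.hom.app (op w.obj.fst.base) w.obj.fst.sec := fun χ w => by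
    refine Eq.trans ?_ (secOf_ofPshMap χ.hom w.obj.fst)
    rfl
  have hCx : ∀ χ {T : Over S} (x : T ⟶ X'),
      secOf (C χ) (ofPoint hsec sq x) = yEq ((yon S).map x ≫ (yon S).map p' ≫ χ) := fun χ T x => by
    rw [hC, ← Functor.map_comp_assoc, yEq_comp]
    rfl
  refine ⟨χ, ⟨eqToIso (QuotStLib.basedFunctor_ext_sec ?_)⟩, fun χ' ⟨i⟩ => hu χ' ?_⟩
  · rintro ⟨⟨⟨T, ⟨y⟩⟩, A, i⟩, hi⟩
    have e₀ : A.base = T := FibLib.obj_snd_eq (⟨⟨⟨T, ⟨y⟩⟩, A, i⟩, hi⟩ : (Fp).obj)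
    subst e₀
    haveI : (AlgSt.ofSch Y).p.IsHomLift (𝟙 A.base) i.hom := hi
    obtain ⟨-, hr⟩ := rel_of_obj hsec A y i.hom
    let x := hp.lift A.φ (A.π ≫ y) hr.symm
    have hx₁ : x ≫ pX = A.φ := hp.lift_fst _ _ _
    have hx₂ : x ≫ p' = A.π ≫ y := hp.lift_snd _ _ _
    let w : (Fp).obj := ⟨⟨⟨A.base, ⟨y⟩⟩, A, i⟩, hi⟩
    let a : (⟨A.P, ⟨x ≫ p'⟩⟩ : (AlgSt.ofSch Y').obj) ⟶ ⟨A.base, ⟨y⟩⟩ := ⟨A.π, congrArg ULift.up hx₂.symm⟩
    let b : QuotStLib.triv Scheme.fppfPrecoverage aX (x ≫ pX) ⟶ A :=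
      QuotStLib.homOfSection A (𝟙 A.P) (x ≫ pX) (by rw [hx₁, Category.id_comp]) A.π (Category.id_comp _)
    haveI : (AlgSt.ofSch Y').p.IsHomLift A.π a := IsHomLift.map (AlgSt.ofSch Y').p a
    haveI : (AlgSt.QuotSt Scheme.fppfPrecoverage G aX).p.IsHomLift A.π b :=
      IsHomLift.map (AlgSt.QuotSt Scheme.fppfPrecoverage G aX).p b
    let m : ofPoint hsec sq x ⟶ w := fpHom a b (fp_w (x := ofPoint hsec sq x) (y := w) A.π a b)
    have e1 := secOf_naturality φ m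
    have e2 := secOf_naturality (C χ) m
    rw [secOf_ofPoint] at e1
    rw [hCx, hχ] at e2
    haveI : Flat A.π.left :=
      (locP_yon_map_iff _).1 (QuotStLib.locP_torsor @Flat isLocalOnBase_fppf_flat inferInstance A)
    haveI : LocallyOfFinitePresentation A.π.left :=
      (locP_yon_map_iff _).1 (QuotStLib.locP_torsor @LocallyOfFinitePresentation isLocalOnBase_fppf_lfp inferInstance A)
    haveI : Surjective A.π.left := surjective_left_of_isSurjectiveMor (QuotStLib.isSurjectiveMor_torsor A)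
    haveI := isLocallySurjective_yon_map A.π
    refine yEq.symm.injective ((cancel_epi ((yon S).map A.π)).1 (yEq.injective ?_))
    rw [yEq_map, yEq_map]
    exact (congrArg _ (Equiv.apply_symm_apply _ _)).trans
      ((e2.trans e1.symm).trans (congrArg _ (Equiv.apply_symm_apply _ _)).symm)
  · refine yEq.injective ?_
    have h1 := secOf_iso i (ofPoint hsec sq (𝟙 X'))
    change secOf (C χ') _ = _ at h1
    rw [hCx, psiOf] at *
    rw [Equiv.apply_symm_apply, ← h1]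
    erw [(yon S).map_id]
    rw [Category.id_comp]

include hsec in
/-- The base change is bijective on geometric points. -/
theorem geomPtBij (hπ : AlgSt.GeomPtBij π) (hp : IsPullback pX p' f g)
    (hs : ∀ (Ω : Type u) [Field Ω] [IsAlgClosed Ω] (t : Spec (CommRingCat.of Ω) ⟶ S),
      ∀ y : Over.mk t ⟶ Y, ∃ x : Over.mk t ⟶ X, x ≫ f = y) :
    AlgSt.GeomPtBij (FibCat.fpFst (AlgSt.ofSpMap ((yon S).map g)) π) := by
  intro Ω _ _ t
  refine ⟨fun m => ?_, ?_⟩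
  · obtain ⟨x₀, hx₀⟩ := hs Ω t (m.down ≫ g)
    let x := hp.lift x₀ m.down hx₀
    refine ⟨Functor.Fiber.mk (p := (Fp).p) (a := ofPoint hsec hp.w x) rfl, ?_⟩
    simp only [AlgSt.fibSec]
    erw [Functor.map_id_apply]
    exact congrArg ULift.up (hp.lift_snd _ _ _)
  · rintro ⟨⟨⟨⟨T, ⟨y⟩⟩, A, i⟩, hi⟩, hT⟩ ⟨⟨⟨⟨T', ⟨y'⟩⟩, A', i'⟩, hi'⟩, hT'⟩ h
    change T = Over.mk t at hT
    change T' = Over.mk t at hT'
    subst hT hT'
    have hA : A.base = Over.mk t := FibLib.obj_snd_eq (⟨⟨⟨Over.mk t, ⟨y⟩⟩, A, i⟩, hi⟩ : (Fp).obj)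
    have hA' : A'.base = Over.mk t := FibLib.obj_snd_eq (⟨⟨⟨Over.mk t, ⟨y'⟩⟩, A', i'⟩, hi'⟩ : (Fp).obj)
    simp only [AlgSt.fibSec] at h
    erw [Functor.map_id_apply, Functor.map_id_apply] at h
    have hy : y = y' := congrArg ULift.down h
    subst hy
    let a₁ : Functor.Fiber (AlgSt.QuotSt Scheme.fppfPrecoverage G aX).p (Over.mk t) := ⟨A, hA⟩
    let a₂ : Functor.Fiber (AlgSt.QuotSt Scheme.fppfPrecoverage G aX).p (Over.mk t) := ⟨A', hA'⟩
    have he : AlgSt.fibSec π a₁ = AlgSt.fibSec π a₂ := by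
      haveI : (AlgSt.ofSch Y).p.IsHomLift (𝟙 (Over.mk t)) i.hom := hi
      haveI : (AlgSt.ofSch Y).p.IsHomLift (𝟙 (Over.mk t)) i'.hom := hi'
      simp only [AlgSt.fibSec]
      exact (@sec_eq_of_vert _ _ _ _ _ (Over.mk t) i.hom hi rfl ((π.w_obj A).trans hA)).symm.trans
        (@sec_eq_of_vert _ _ _ _ _ (Over.mk t) i'.hom hi' rfl ((π.w_obj A').trans hA'))
    obtain ⟨j⟩ := (hπ Ω t).2 a₁ a₂ he
    let j₀ : A ≅ A' := Functor.Fiber.fiberInclusion.mapIso j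
    haveI : (AlgSt.QuotSt Scheme.fppfPrecoverage G aX).p.IsHomLift (𝟙 (Over.mk t)) j₀.hom := j.hom.2
    let o : (AlgSt.ofSch Y').obj := ⟨Over.mk t, ⟨y⟩⟩
    haveI : (AlgSt.ofSch Y').p.IsHomLift (𝟙 (Over.mk t)) (𝟙 o) := IsHomLift.id rfl
    let w₁ : (Fp).obj := ⟨⟨o, A, i⟩, hi⟩
    let w₂ : (Fp).obj := ⟨⟨o, A', i'⟩, hi'⟩
    let κ : w₁ ≅ w₂ := fpIsoMk (x := w₁) (y := w₂) (Iso.refl o) j₀
      (fp_w (x := w₁) (y := w₂) (𝟙 (Over.mk t)) (𝟙 o) j₀.hom)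
    haveI h1 : (Fp).p.IsHomLift (𝟙 (Over.mk t)) κ.hom := by
      haveI : (AlgSt.ofSch Y').p.IsHomLift (𝟙 (Over.mk t)) κ.hom.hom.fst :=
        inferInstanceAs ((AlgSt.ofSch Y').p.IsHomLift (𝟙 (Over.mk t)) (𝟙 o))
      exact isHomLift_of_fst _ _
    haveI h2 : (Fp).p.IsHomLift (𝟙 (Over.mk t)) κ.inv := IsHomLift.lift_id_inv _ _ κ
    exact ⟨{ hom := ⟨κ.hom, h1⟩, inv := ⟨κ.inv, h2⟩,
             hom_inv_id := Functor.Fiber.hom_ext κ.hom_inv_id, inv_hom_id := Functor.Fiber.hom_ext κ.inv_hom_id }⟩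

end ConstQuotLib
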