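import Groth.Agent.QuotStLib.Coarse
import Groth.Agent.QuotLib.Props
import Groth.Agent.AlgSpLib.PureMono
import Groth.Agent.AlgSpLib.LocP
import Groth.Prelude.Def_StMod2

/-!
# The structure sheaf of the coarse space of a quotient stack
-/

set_option autoImplicit false
set_option linter.all false
set_option backward.isDefEq.respectTransparency false
set_option backward.isDefEq.respectTransparency.types false

noncomputable section

universe w u

open CategoryTheory CategoryTheory.Limits MonoidalCategory CartesianMonoidalCategory AlgebraicGeometry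
open scoped MonObj
open Opposite AlgSp AlgSpLib AlgStLib StMod

namespace ConstQuotLib

variable {S : Scheme.{u}}

section Alpha

variable {𝒳 : AlgSt.Cat.{u} S} {Y : Over S} (π : 𝒳 ⥤ᵇ AlgSt.ofSch Y) (oE : (AlgSt.ofSch Y).obj)

theorem baseOver_w (ξ : 𝒳.obj) (α : π.obj ξ ⟶ oE) :
    baseOver π ξ α ≫ oE.sec.down = (secOf π ξ).down :=
  congrArg ULift.down (show ((yon S).obj Y).obj.map (baseOver π ξ α).op oE.sec = secOf π ξ by
    rw [baseOver, op_comp, Functor.map_comp_apply]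
    exact congrArg _ α.map_sec)

theorem baseOver_injective (ξ : 𝒳.obj) {α β : π.obj ξ ⟶ oE}
    (h : baseOver π ξ α = baseOver π ξ β) : α = β := by
  unfold baseOver at h
  exact Stk.EltObj.hom_ext ((cancel_epi _).1 h)

theorem exists_baseOver (ξ : 𝒳.obj) (y : 𝒳.p.obj ξ ⟶ oE.base) (h : y ≫ oE.sec.down = (secOf π ξ).down) :
    ∃ α : π.obj ξ ⟶ oE, baseOver π ξ α = y := by
  let m : (⟨𝒳.p.obj ξ, secOf π ξ⟩ : (AlgSt.ofSch Y).obj) ⟶ oE := ⟨y, congrArg ULift.up h⟩
  refine ⟨eqToHom (obj_eq π ξ) ≫ m, ?_⟩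
  show eqToHom _ ≫ (AlgSt.ofSch Y).p.map _ = y
  rw [Functor.map_comp, eqToHom_map, ← Category.assoc, eqToHom_trans, eqToHom_refl]
  exact Category.id_comp _

end Alpha

variable {G X Y E X' : Over S} [GrpObj G] {aX : AlgGrp.Action G X}
  (π : AlgSt.QuotSt Scheme.fppfPrecoverage G aX ⥤ᵇ AlgSt.ofSch Y) {f : X ⟶ Y} (oE : (AlgSt.ofSch Y).obj)
  {Γ' : Type u} [Group Γ'] (ρ : Γ' →* Aut X'.left)

/-- Criterion for the bijectivity of the unit over a test object. -/
theorem bijective_unitSect [Flat G.hom] [LocallyOfFinitePresentation G.hom]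
    (hsec : ∀ ⦃T : Over S⦄ (x : T ⟶ X),
      secOf π (QuotStLib.triv Scheme.fppfPrecoverage aX x) = (⟨x ≫ f⟩ : ((yon S).obj Y).obj.obj (op T)))
    {pX : X' ⟶ X} {p' : X' ⟶ oE.base} (sq : IsPullback pX p' f oE.sec.down)
    (hρ : SGA1.IsQuot ρ p'.left)
    (hgm : ∀ a : Γ', ∃ (τ : X' ⟶ X') (gm : X' ⟶ G), τ.left = (ρ a).hom ∧ τ ≫ p' = p' ∧
      lift gm pX ≫ aX.act = τ ≫ pX) :
    Function.Bijective (unitSect π oE) := by
  let triv₀ := fun {T : Over S} (x : T ⟶ X) => QuotStLib.triv Scheme.fppfPrecoverage aX x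
  obtain ⟨α₀, hα₀⟩ := exists_baseOver π oE (triv₀ pX) p' (by rw [hsec]; exact sq.w.symm)
  refine ⟨fun r r' h => ?_, fun s => ?_⟩
  · have := congrArg (fun t : (O (AlgSt.QuotSt Scheme.fppfPrecoverage G aX)).RelSect π oE => t.1 (triv₀ pX) α₀) h
    simp only [unitSect_val, hα₀] at this
    exact hρ.injective ⊤ this
  · obtain ⟨r, hr⟩ : s.1 (triv₀ pX) α₀ ∈ Set.range p'.left.appTop.hom := by
      refine (hρ.range_iff ⊤ _).2 fun a => ?_
      obtain ⟨τ, gm, hτ, hτp, hlift⟩ := hgm a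
      obtain ⟨φ₁, hb₁, -⟩ := (QuotStLib.hom_iff (K := Scheme.fppfPrecoverage) (aX := aX) τ (τ ≫ pX) pX).2 1
        (QuotStLib.act_one aX _)
      obtain ⟨φ₂, hb₂, -⟩ := (QuotStLib.hom_iff (K := Scheme.fppfPrecoverage) (aX := aX) (𝟙 X') (τ ≫ pX) pX).2 gm
        (by rw [Category.id_comp]; exact hlift)
      have hα : π.map φ₁ ≫ α₀ = π.map φ₂ ≫ α₀ := by
        refine baseOver_injective π oE _ ?_
        rw [← map_comp_baseOver, ← map_comp_baseOver, hα₀]
        show φ₁.base ≫ p' = φ₂.base ≫ p'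
        rw [hb₁, hb₂, hτp]; exact (Category.id_comp p').symm
      have h₁ := s.2 φ₁ α₀
      have h₂ := s.2 φ₂ α₀
      rw [O_mapTop] at h₁ h₂
      rw [← hα] at h₂
      have h₃ := h₁.trans h₂.symm
      change φ₁.base.left.appTop _ = φ₂.base.left.appTop _ at h₃
      rw [hb₁, hb₂, hτ] at h₃
      rw [show (ρ a).hom.appLE (p'.left ⁻¹ᵁ ⊤) (p'.left ⁻¹ᵁ ⊤) _ = (ρ a).hom.appTop from QuotLib.appTop_eq_appLE _ _]
      refine h₃.trans ?_
      rw [Over.id_left, Scheme.Hom.id_appTop]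
      rfl
    refine ⟨r, Mod.RelSect.ext _ _ _ fun A α => ?_⟩
    rw [unitSect_val]
    have hA : A.φ ≫ f = (A.π ≫ baseOver π A α) ≫ oE.sec.down := by
      have h3 := secOf_naturality π (QuotStLib.homOfSection A (𝟙 A.P) A.φ (Category.id_comp _) A.π (Category.id_comp _))
      rw [hsec] at h3
      rw [Category.assoc, baseOver_w]
      exact (congrArg ULift.down h3).symm
    let x := sq.lift A.φ (A.π ≫ baseOver π A α) hA
    obtain ⟨φ₃, hb₃, -⟩ := (QuotStLib.hom_iff (K := Scheme.fppfPrecoverage) (aX := aX) x (x ≫ pX) pX).2 1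
      (QuotStLib.act_one aX _)
    let φ₄ : triv₀ (x ≫ pX) ⟶ A :=
      QuotStLib.homOfSection A (𝟙 A.P) (x ≫ pX) (by rw [Category.id_comp]; exact (sq.lift_fst _ _ _).symm) A.π (Category.id_comp _)
    have hα : π.map φ₃ ≫ α₀ = π.map φ₄ ≫ α := by
      refine baseOver_injective π oE _ ?_
      rw [← map_comp_baseOver, ← map_comp_baseOver, hα₀]
      show φ₃.base ≫ p' = A.π ≫ baseOver π A α
      rw [hb₃]
      exact sq.lift_snd _ _ _
    have h₃ := s.2 φ₃ α₀
    have h₄ := s.2 φ₄ α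
    rw [O_mapTop] at h₃ h₄
    rw [← hα] at h₄
    have h₅ := h₃.trans h₄.symm
    change φ₃.base.left.appTop _ = A.π.left.appTop _ at h₅
    rw [hb₃, ← hr] at h₅
    haveI : Flat A.π.left :=
      (locP_yon_map_iff _).1 (QuotStLib.locP_torsor @Flat isLocalOnBase_fppf_flat inferInstance A)
    haveI : Surjective A.π.left := surjective_left_of_isSurjectiveMor (QuotStLib.isSurjectiveMor_torsor A)
    refine AlgSpLib.appTop_injective_of_flat_surjective A.π.left ?_
    refine Eq.trans ?_ h₅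
    have e : A.π ≫ baseOver π A α = x ≫ p' := (sq.lift_snd _ _ _).symm
    exact congrArg (fun q : A.P ⟶ oE.base => q.left.appTop.hom r) e

end ConstQuotLib
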